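import Mathlib

/-!
# Central extensions over a group acting on a graph that is simply connected by triangles

`ξ : E → G` is surjective with central kernel, `G` acts on `X` with an adjacency relation, and `M` is
a subgroup of `E` over the stabilizer of the base point.  If the stabilizer of an edge is perfect,
the group is transitive on points, edges and triangles, and the graph is connected and simply
connected by triangles in the sense of `Graph`, then a perfect `E` has its kernel inside `M`.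
-/

set_option autoImplicit false

open scoped commutatorElement

namespace CfsgLib.Schur.OddOrth

universe u v w

variable {G : Type u} [Group G] {X : Type v} [MulAction G X]

/-- The hypotheses on the graph. -/
structure Graph (v0 : X) (adj : X → X → Prop) : Prop where
  symm : ∀ {x y}, adj x y → adj y x
  smul : ∀ (g : G) {x y}, adj x y → adj (g • x) (g • y)
  point : ∀ x : X, ∃ g : G, g • v0 = x
  edge : ∀ {x y x' y'}, adj x y → adj x' y' → ∃ g : G, g • x = x' ∧ g • y = y'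
  tri : ∀ {x y z x' y' z'}, adj x y → adj y z → adj z x → adj x' y' → adj y' z' → adj z' x' →
    ∃ g : G, g • x = x' ∧ g • y = y' ∧ g • z = z'
  common : ∀ x, ∃ u, adj v0 u ∧ adj u x
  link : ∀ {x u u'}, adj v0 u → adj u x → adj v0 u' → adj u' x →
    Relation.ReflTransGen (fun a b => adj a b ∧ (adj v0 b ∧ adj b x)) u u'
  cone : ∀ {a b}, adj a b → ∃ u, adj v0 u ∧ adj u a ∧ adj u b
  perf : ∀ {y}, adj v0 y →
    MulAction.stabilizer G v0 ⊓ MulAction.stabilizer G y ≤
      ⁅MulAction.stabilizer G v0 ⊓ MulAction.stabilizer G y,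
        MulAction.stabilizer G v0 ⊓ MulAction.stabilizer G y⁆

/-- The hypotheses on a graph with a distinguished class of triangles and of middle points. -/
structure GraphT (v0 : X) (adj : X → X → Prop) (Tri : X → X → X → Prop) (Good : X → X → Prop) : Prop where
  symm : ∀ {x y}, adj x y → adj y x
  smul : ∀ (g : G) {x y}, adj x y → adj (g • x) (g • y)
  point : ∀ x : X, ∃ g : G, g • v0 = x
  edge : ∀ {x y x' y'}, adj x y → adj x' y' → ∃ g : G, g • x = x' ∧ g • y = y'
  tri : ∀ {x y z x' y' z'}, adj x y → adj y z → adj z x → Tri x y z → adj x' y' → adj y' z' → adj z' x' →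
    Tri x' y' z' → ∃ g : G, g • x = x' ∧ g • y = y' ∧ g • z = z'
  base : ∃ u w, adj v0 u ∧ adj v0 w ∧ adj w u ∧ Tri v0 u w ∧ Tri v0 w u
  common : ∀ x, ∃ u, adj v0 u ∧ adj u x ∧ Good u x
  link : ∀ {x u u'}, adj v0 u → adj u x → Good u x → adj v0 u' → adj u' x → Good u' x →
    Relation.ReflTransGen
      (fun a b => adj a b ∧ adj v0 b ∧ adj b x ∧ Tri v0 a b ∧ Tri b a x) u u'
  cone : ∀ {a b}, adj a b → ∃ c, adj a c ∧ adj c b ∧ Tri a c b ∧
    (∃ u, adj v0 u ∧ adj u a ∧ adj u c ∧ Good u a ∧ Good u c ∧ Tri u a c) ∧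
    ∃ u, adj v0 u ∧ adj u c ∧ adj u b ∧ Good u c ∧ Good u b ∧ Tri u c b
  perf : ∀ {y}, adj v0 y →
    MulAction.stabilizer G v0 ⊓ MulAction.stabilizer G y ≤
      ⁅MulAction.stabilizer G v0 ⊓ MulAction.stabilizer G y,
        MulAction.stabilizer G v0 ⊓ MulAction.stabilizer G y⁆

theorem Graph.toGraphT {v0 : X} {adj : X → X → Prop} (hG : Graph (G := G) v0 adj) :
    GraphT (G := G) v0 adj (fun _ _ _ => True) (fun _ _ => True) where
  symm := hG.symm
  smul := hG.smul
  point := hG.point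
  edge := hG.edge
  tri a b c _ a' b' c' _ := hG.tri a b c a' b' c'
  base := by
    obtain ⟨u, hu, -⟩ := hG.common v0
    obtain ⟨w, h1, h2, h3⟩ := hG.cone hu
    exact ⟨u, w, hu, h1, h3, trivial, trivial⟩
  common x := by
    obtain ⟨u, h1, h2⟩ := hG.common x
    exact ⟨u, h1, h2, trivial⟩
  link a b _ c d _ :=
    Relation.ReflTransGen.lift id (fun _ _ h => ⟨h.1, h.2.1, h.2.2, trivial, trivial⟩) _ _ (hG.link a b c d)
  cone {a b} hab := by
    obtain ⟨c, -, h1, h2⟩ := hG.cone hab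
    obtain ⟨u, k1, k2, k3⟩ := hG.cone (hG.symm h1)
    obtain ⟨u', l1, l2, l3⟩ := hG.cone h2
    exact ⟨c, hG.symm h1, h2, trivial, ⟨u, k1, k2, k3, trivial, trivial, trivial⟩,
      u', l1, l2, l3, trivial, trivial, trivial⟩
  perf := hG.perf

variable {E : Type w} [Group E] {ξ : E →* G} {M : Subgroup E} {v0 : X}

/-- The projection of the cosets to the points. -/
def prj (hM : M.map ξ = MulAction.stabilizer G v0) : E ⧸ M → X :=
  fun z => Quotient.liftOn' z (fun e => ξ e • v0) fun a b h => by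
    rw [QuotientGroup.leftRel_apply] at h
    have h1 : ξ (a⁻¹ * b) ∈ MulAction.stabilizer G v0 := hM ▸ Subgroup.mem_map_of_mem ξ h
    rw [MulAction.mem_stabilizer_iff, map_mul, map_inv, mul_smul, inv_smul_eq_iff] at h1
    exact h1.symm

variable (hM : M.map ξ = MulAction.stabilizer G v0)

theorem prj_mk (e : E) : prj hM (e : E ⧸ M) = ξ e • v0 := rfl

theorem prj_smul (e : E) (z : E ⧸ M) : prj hM (e • z) = ξ e • prj hM z := by
  induction z using QuotientGroup.induction_on with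
  | _ a =>
    show prj hM ((e * a : E) : E ⧸ M) = _
    rw [prj_mk, prj_mk, map_mul, mul_smul]

theorem exists_smul_mk (z : E ⧸ M) : ∃ f : E, f • ((1 : E) : E ⧸ M) = z := by
  induction z using QuotientGroup.induction_on with
  | _ a => exact ⟨a, congrArg ((↑) : E → E ⧸ M) (mul_one a)⟩

variable (hk : ξ.ker ≤ Subgroup.center E)
include hk

omit hM in
/-- A kernel element moving one coset trivially moves all of them trivially. -/
theorem ker_smul_uniform {a b : E} (ha : a ∈ ξ.ker) (hb : b ∈ ξ.ker) {z : E ⧸ M} (h : a • z = b • z)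
    (z' : E ⧸ M) : a • z' = b • z' := by
  obtain ⟨f, rfl⟩ := exists_smul_mk z
  obtain ⟨f', rfl⟩ := exists_smul_mk z'
  have ca : ∀ e : E, a * e = e * a := fun e => (Subgroup.mem_center_iff.1 (hk ha) e).symm
  have cb : ∀ e : E, b * e = e * b := fun e => (Subgroup.mem_center_iff.1 (hk hb) e).symm
  rw [← mul_smul, ← mul_smul, ca, cb, mul_smul, mul_smul] at h
  rw [← mul_smul, ← mul_smul, ca, cb, mul_smul, mul_smul, smul_left_cancel f h]

omit hM in
theorem ker_smul_comm {a : E} (ha : a ∈ ξ.ker) (e : E) (z : E ⧸ M) : a • e • z = e • a • z := by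
  rw [← mul_smul, ← mul_smul, (Subgroup.mem_center_iff.1 (hk ha) e)]

theorem exists_ker_of_prj_eq {z z' : E ⧸ M} (h : prj hM z = prj hM z') : ∃ a ∈ ξ.ker, a • z = z' := by
  obtain ⟨f, rfl⟩ := exists_smul_mk z
  obtain ⟨f', rfl⟩ := exists_smul_mk z'
  rw [prj_smul, prj_smul] at h
  have h1 : ξ (f⁻¹ * f') ∈ M.map ξ := by
    rw [hM, MulAction.mem_stabilizer_iff, map_mul, map_inv, mul_smul, inv_smul_eq_iff]
    simpa [prj_mk] using h.symm
  obtain ⟨μ, hμ, hμ'⟩ := h1
  have ha : f⁻¹ * f' * μ⁻¹ ∈ ξ.ker := by rw [MonoidHom.mem_ker, map_mul, map_inv, hμ', mul_inv_cancel]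
  refine ⟨f⁻¹ * f' * μ⁻¹, ha, ?_⟩
  rw [ker_smul_comm hk ha]
  show ((f * ((f⁻¹ * f' * μ⁻¹) * 1) : E) : E ⧸ M) = ((f' * 1 : E) : E ⧸ M)
  rw [QuotientGroup.eq]
  show _ ∈ M
  rw [show (f * (f⁻¹ * f' * μ⁻¹ * 1))⁻¹ * (f' * 1) = μ by group]
  exact hμ

variable {adj : X → X → Prop} {Tri : X → X → X → Prop} {Good : X → X → Prop}
  (hG : GraphT (G := G) v0 adj Tri Good) (hs : Function.Surjective ξ)
include hG hs

/-- The pairs of cosets in the orbit of one lifted edge. -/
def Lift (e : E) (x y : E ⧸ M) : Prop :=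
  ∃ f : E, f • ((1 : E) : E ⧸ M) = x ∧ f • (e : E ⧸ M) = y

omit hM hk hG hs in
theorem Lift.smul {e : E} {x y : E ⧸ M} (h : Lift e x y) (f : E) : Lift e (f • x) (f • y) := by
  obtain ⟨g, h1, h2⟩ := h
  exact ⟨f * g, by rw [mul_smul, h1], by rw [mul_smul, h2]⟩

omit hk hG hs in
theorem Lift.adj_prj {e : E} (he : adj v0 (ξ e • v0)) (hG : GraphT (G := G) v0 adj Tri Good) {x y : E ⧸ M}
    (h : Lift e x y) : adj (prj hM x) (prj hM y) := by
  obtain ⟨f, rfl, rfl⟩ := h
  rw [prj_smul, prj_smul, prj_mk, prj_mk, map_one, one_smul]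
  exact hG.smul _ he

theorem Lift.exists_next {e : E} (he : adj v0 (ξ e • v0)) {x : E ⧸ M} {y : X} (h : adj (prj hM x) y) :
    ∃ y', Lift e x y' ∧ prj hM y' = y := by
  obtain ⟨g, hg1, hg2⟩ := hG.edge he h
  obtain ⟨f, rfl⟩ := hs g
  obtain ⟨a, ha, hax⟩ := exists_ker_of_prj_eq hM hk
    (z := f • ((1 : E) : E ⧸ M)) (z' := x) (by rw [prj_smul, prj_mk, map_one, one_smul]; exact hg1)
  refine ⟨(a * f) • (e : E ⧸ M), ⟨a * f, by rw [mul_smul, hax], rfl⟩, ?_⟩
  rw [prj_smul, prj_mk, map_mul, MonoidHom.mem_ker.1 ha, one_mul]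
  exact hg2

theorem Lift.unique {e : E} (he : adj v0 (ξ e • v0)) {x y y' : E ⧸ M} (h : Lift e x y)
    (h' : Lift e x y') (hp : prj hM y = prj hM y') : y = y' := by
  obtain ⟨f, rfl, rfl⟩ := h
  obtain ⟨f', hf', rfl⟩ := h'
  rw [prj_smul, prj_smul, prj_mk] at hp
  set d := f⁻¹ * f' with hd
  have hdM : d ∈ M := by
    have h1 : ((f' * 1 : E) : E ⧸ M) = ((f * 1 : E) : E ⧸ M) := hf'
    rw [mul_one, mul_one] at h1
    exact QuotientGroup.eq.1 h1.symm
  -- the elements of `M` over the edge stabilizer move `e` inside its coset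
  set K := MulAction.stabilizer G v0 ⊓ MulAction.stabilizer G (ξ e • v0) with hK
  have hMK : ∀ μ ∈ M, ξ μ ∈ MulAction.stabilizer G v0 := fun μ hμ => hM ▸ Subgroup.mem_map_of_mem ξ hμ
  have hdK : ξ d ∈ K := by
    refine ⟨hMK d hdM, ?_⟩
    show ξ d • (ξ e • v0) = ξ e • v0
    rw [hd, map_mul, map_inv, mul_smul, inv_smul_eq_iff]
    exact hp.symm
  set MK := M ⊓ K.comap ξ with hMKdef
  have hmap : MK.map ξ = K := by
    refine le_antisymm (Subgroup.map_le_iff_le_comap.2 inf_le_right) fun g hg => ?_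
    obtain ⟨μ, hμ, rfl⟩ : g ∈ M.map ξ := by rw [hM]; exact hg.1
    exact ⟨μ, ⟨hμ, hg⟩, rfl⟩
  -- conjugation by `e` maps `MK` into `M` up to the kernel
  have hconj : ∀ μ ∈ MK, ∃ a ∈ ξ.ker, ∃ ν ∈ M, e⁻¹ * μ * e = ν * a := fun μ hμ => by
    have h1 : ξ (e⁻¹ * μ * e) ∈ M.map ξ := by
      have h2 : ξ μ • (ξ e • v0) = ξ e • v0 := hμ.2.2
      rw [hM, MulAction.mem_stabilizer_iff, map_mul, map_mul, map_inv, mul_smul, mul_smul, h2, inv_smul_smul]
    obtain ⟨ν, hν, hν'⟩ := h1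
    exact ⟨ν⁻¹ * (e⁻¹ * μ * e), by rw [MonoidHom.mem_ker, map_mul, map_inv, hν', inv_mul_cancel], ν, hν,
      by group⟩
  let P : Subgroup E := M.comap (MulAut.conj e⁻¹).toMonoidHom
  have hcomm : ⁅MK, MK⁆ ≤ P := Subgroup.commutator_le.2 fun μ hμ μ' hμ' => by
    obtain ⟨a, ha, ν, hν, h1⟩ := hconj μ hμ
    obtain ⟨a', ha', ν', hν', h2⟩ := hconj μ' hμ'
    show MulAut.conj e⁻¹ ⁅μ, μ'⁆ ∈ M
    rw [map_commutatorElement, MulAut.conj_apply, MulAut.conj_apply, inv_inv, h1, h2]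
    have ca : ∀ z, a * z = z * a := fun z => (Subgroup.mem_center_iff.1 (hk ha) z).symm
    have ca' : ∀ z, a' * z = z * a' := fun z => (Subgroup.mem_center_iff.1 (hk ha') z).symm
    have hac : ⁅ν * a, ν' * a'⁆ = ⁅ν, ν'⁆ := by
      rw [commutatorElement_def, commutatorElement_def, mul_inv_rev, mul_inv_rev]
      calc ν * a * (ν' * a') * (a⁻¹ * ν⁻¹) * (a'⁻¹ * ν'⁻¹)
          = ν * (a * (ν' * a') * a⁻¹) * ν⁻¹ * (a'⁻¹ * ν'⁻¹) := by group
        _ = ν * ν' * (a' * ν⁻¹ * a'⁻¹) * ν'⁻¹ := by rw [ca]; group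
        _ = ν * ν' * ν⁻¹ * ν'⁻¹ := by rw [ca']; group
    rw [hac]
    exact Subgroup.commutator_le.1 (le_of_eq rfl) ν hν ν' hν' |> Subgroup.commutator_le_self M
  have hdP : d ∈ P := by
    have h1 : ξ d ∈ (⁅MK, MK⁆).map ξ := by
      rw [Subgroup.map_commutator, hmap]
      exact hG.perf he hdK
    obtain ⟨c, hc, hc'⟩ := h1
    have hck : c⁻¹ * d ∈ ξ.ker := by rw [MonoidHom.mem_ker, map_mul, map_inv, hc', inv_mul_cancel]
    have hcM : c⁻¹ * d ∈ M := M.mul_mem (M.inv_mem (Subgroup.commutator_le_self M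
      (Subgroup.commutator_mono inf_le_left inf_le_left hc))) hdM
    rw [show d = c * (c⁻¹ * d) by group]
    refine P.mul_mem (hcomm hc) ?_
    show MulAut.conj e⁻¹ (c⁻¹ * d) ∈ M
    rw [MulAut.conj_apply, inv_inv, Subgroup.mem_center_iff.1 (hk hck) e⁻¹, mul_assoc, inv_mul_cancel, mul_one]
    exact hcM
  show ((f * e : E) : E ⧸ M) = ((f' * e : E) : E ⧸ M)
  rw [QuotientGroup.eq]
  have : e⁻¹ * d * e ∈ M := by
    have := hdP
    simpa [P, MulAut.conj_apply] using this
  convert this using 1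
  rw [hd]
  group

include hM in
/-- A lifted edge for which backtracking and triangles close up. -/
theorem exists_flat :
    ∃ e : E, adj v0 (ξ e • v0) ∧ (∀ x y : E ⧸ M, Lift e x y → Lift e y x) ∧
      ∀ x y z : E ⧸ M, Lift e x y → Lift e y z → adj (prj hM z) (prj hM x) →
        Tri (prj hM x) (prj hM y) (prj hM z) → Lift e x z := by
  obtain ⟨u, w, hu, hw1, hwu, ht1, ht2⟩ := hG.base
  obtain ⟨g, hg⟩ := hG.point u
  obtain ⟨e, rfl⟩ := hs g
  subst hg
  have hw3 := hwu
  set o : E ⧸ M := ((1 : E) : E ⧸ M)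
  have hpo : prj hM o = v0 := by rw [prj_mk, map_one, one_smul]
  have hpe : prj hM (e : E ⧸ M) = ξ e • v0 := rfl
  have heo : Lift e o (e : E ⧸ M) := ⟨1, one_smul _ _, one_smul _ _⟩
  -- backtracking
  obtain ⟨o', ho', hpo'⟩ := Lift.exists_next hM hk hG hs hu (x := (e : E ⧸ M)) (y := v0)
    (by rw [hpe]; exact hG.symm hu)
  obtain ⟨b, hb, rfl⟩ := exists_ker_of_prj_eq hM hk (z := o) (z' := o') (by rw [hpo, hpo'])
  have hback : ∀ x y z : E ⧸ M, Lift e x y → Lift e y z → prj hM z = prj hM x → z = b • x := by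
    intro x y z hxy hyz hp
    obtain ⟨f, rfl, rfl⟩ := hxy
    have h1 := ho'.smul f
    rw [← ker_smul_comm hk hb] at h1
    refine Lift.unique hM hk hG hs hu hyz h1 ?_
    rw [hp, prj_smul hM b, MonoidHom.mem_ker.1 hb, one_smul]
  -- triangles
  obtain ⟨w', hw', hpw'⟩ := Lift.exists_next hM hk hG hs hu (x := (e : E ⧸ M)) (y := w)
    (by rw [hpe]; exact hG.symm hw3)
  obtain ⟨o'', ho'', hpo''⟩ := Lift.exists_next hM hk hG hs hu (x := w') (y := v0)
    (by rw [hpw']; exact hG.symm hw1)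
  obtain ⟨t, ht, rfl⟩ := exists_ker_of_prj_eq hM hk (z := o) (z' := o'') (by rw [hpo, hpo''])
  have htri : ∀ x y z x' : E ⧸ M, Lift e x y → Lift e y z → Lift e z x' →
      adj (prj hM z) (prj hM x) → Tri (prj hM x) (prj hM y) (prj hM z) → prj hM x' = prj hM x →
        x' = t • x := by
    intro x y z x' hxy hyz hzx hzx' hT hp
    obtain ⟨g, g1, g2, g3⟩ := hG.tri hu (hG.symm hw3) (hG.symm hw1) ht1 (Lift.adj_prj hM hu hG hxy)
      (Lift.adj_prj hM hu hG hyz) hzx' hT
    obtain ⟨f, rfl⟩ := hs g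
    obtain ⟨a, ha, hax⟩ := exists_ker_of_prj_eq hM hk (z := f • o) (z' := x)
      (by rw [prj_smul, hpo]; exact g1)
    have hxi : ξ (a * f) = ξ f := by rw [map_mul, MonoidHom.mem_ker.1 ha, one_mul]
    have e1 : (a * f) • o = x := by rw [mul_smul, hax]
    have q1 : (a * f) • (e : E ⧸ M) = y := by
      have h1 := heo.smul (a * f)
      rw [e1] at h1
      exact Lift.unique hM hk hG hs hu h1 hxy (by rw [prj_smul, hxi, hpe]; exact g2)
    have q2 : (a * f) • w' = z := by
      have h1 := hw'.smul (a * f)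
      rw [q1] at h1
      exact Lift.unique hM hk hG hs hu h1 hyz (by rw [prj_smul, hxi, hpw']; exact g3)
    have h1 := ho''.smul (a * f)
    rw [q2, ← ker_smul_comm hk ht, e1] at h1
    exact Lift.unique hM hk hG hs hu hzx h1 (by
      rw [hp, prj_smul hM t, MonoidHom.mem_ker.1 ht, one_smul])
  -- the relation `t ^ 2 = b ^ 3`
  have hrel : ∀ z : E ⧸ M, (t * t) • z = (b * (b * b)) • z := by
    refine ker_smul_uniform hk (mul_mem ht ht) (mul_mem hb (mul_mem hb hb)) (z := o) ?_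
    -- go round the triangle, then backwards
    have hz : Lift e (t • o) (b • w') := by
      obtain ⟨z, hz, hpz⟩ := Lift.exists_next hM hk hG hs hu (x := t • o) (y := w)
        (by rw [prj_smul, MonoidHom.mem_ker.1 ht, one_smul, hpo]; exact hw1)
      rwa [hback w' (t • o) z ho'' hz (by rw [hpz, hpw'])] at hz
    have hy : Lift e (b • w') ((b * b) • (e : E ⧸ M)) := by
      obtain ⟨y, hy, hpy⟩ := Lift.exists_next hM hk hG hs hu (x := w') (y := ξ e • v0)
        (by rw [hpw']; exact hw3)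
      rw [hback (e : E ⧸ M) w' y hw' hy (by rw [hpy, hpe])] at hy
      rw [mul_smul]
      exact hy.smul b
    have hx : Lift e ((b * b) • (e : E ⧸ M)) ((b * (b * b)) • o) := by
      have h1 := ho'.smul (b * b)
      rwa [← mul_smul, show b * b * b = b * (b * b) from mul_assoc b b b] at h1
    have h2 := htri (t • o) (b • w') ((b * b) • (e : E ⧸ M)) ((b * (b * b)) • o) hz hy hx
      (by
        rw [prj_smul, prj_smul, map_mul, MonoidHom.mem_ker.1 hb, MonoidHom.mem_ker.1 ht, one_mul, one_smul,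
          one_smul, hpe, hpo]
        exact hG.symm hu)
      (by
        rw [prj_smul, prj_smul, prj_smul, map_mul, MonoidHom.mem_ker.1 hb, MonoidHom.mem_ker.1 ht, one_mul,
          one_smul, one_smul, one_smul, hpe, hpo, hpw']
        exact ht2)
      (by
        rw [prj_smul, prj_smul, map_mul, map_mul, MonoidHom.mem_ker.1 hb, MonoidHom.mem_ker.1 ht, one_mul,
          one_mul])
    rw [h2, mul_smul]
  -- the flat edge
  set a := b * t⁻¹ with ha_def
  have ha : a ∈ ξ.ker := mul_mem hb (inv_mem ht)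
  refine ⟨a * e, by rw [map_mul, MonoidHom.mem_ker.1 ha, one_mul]; exact hu, ?_, ?_⟩
  all_goals
    have hL : ∀ x y : E ⧸ M, Lift (a * e) x y ↔ Lift e x (a⁻¹ • y) := fun x y => by
      constructor
      · rintro ⟨f, rfl, rfl⟩
        refine ⟨f, rfl, ?_⟩
        rw [eq_inv_smul_iff, ker_smul_comm hk ha]
        rfl
      · rintro ⟨f, rfl, h⟩
        refine ⟨f, rfl, ?_⟩
        rw [eq_inv_smul_iff, ker_smul_comm hk ha] at h
        exact h
    have hainv : ξ a⁻¹ = 1 := by rw [map_inv, MonoidHom.mem_ker.1 ha, inv_one]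
  · intro x y hxy
    rw [hL] at hxy ⊢
    obtain ⟨z, hz, hpz⟩ := Lift.exists_next hM hk hG hs hu (x := y) (y := prj hM x) (by
      have := Lift.adj_prj hM hu hG hxy
      rw [prj_smul, hainv, one_smul] at this
      exact hG.symm this)
    have hz' := hz.smul a⁻¹
    have h := hback x (a⁻¹ • y) (a⁻¹ • z) hxy hz' (by rw [prj_smul, hainv, one_smul, hpz])
    have hz2 : z = a⁻¹ • x := by
      rw [inv_smul_eq_iff] at h
      rw [h, ← mul_smul, eq_inv_smul_iff, ← mul_smul]
      -- `a * a * b = 1` on cosets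
      have h1 : a * (a * b) = (b * (b * b)) * (t * t)⁻¹ := by
        have cb : ∀ g, b * g = g * b := fun g => (Subgroup.mem_center_iff.1 (hk hb) g).symm
        rw [ha_def, mul_inv_rev]
        calc b * t⁻¹ * (b * t⁻¹ * b) = b * t⁻¹ * (b * (t⁻¹ * b)) := by group
          _ = b * (t⁻¹ * b) * (t⁻¹ * b) := by group
          _ = b * (b * t⁻¹) * (b * t⁻¹) := by rw [cb t⁻¹]
          _ = b * (b * (t⁻¹ * b)) * t⁻¹ := by group
          _ = b * (b * (b * t⁻¹)) * t⁻¹ := by rw [cb t⁻¹]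
          _ = _ := by group
      rw [h1, mul_smul, ← hrel, smul_inv_smul]
    rwa [← hz2]
  · intro x y z hxy hyz hzx hT
    rw [hL] at hxy hyz ⊢
    have hyz' := hyz.smul a⁻¹
    obtain ⟨x', hx', hpx'⟩ := Lift.exists_next hM hk hG hs hu (x := a⁻¹ • a⁻¹ • z) (y := prj hM x)
      (by rw [prj_smul, hainv, one_smul, prj_smul, hainv, one_smul]; exact hzx)
    have h := htri x _ _ _ hxy hyz' hx'
      (by rw [prj_smul, hainv, one_smul, prj_smul, hainv, one_smul]; exact hzx)
      (by simp only [prj_smul, hainv, one_smul]; exact hT) hpx'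
    subst h
    obtain ⟨z2, hz2, hpz2⟩ := Lift.exists_next hM hk hG hs hu (x := t • x) (y := prj hM z)
      (by rw [prj_smul, MonoidHom.mem_ker.1 ht, one_smul]; exact hG.symm hzx)
    have h := hback _ _ _ hx' hz2 (by rw [hpz2, prj_smul, hainv, one_smul, prj_smul, hainv, one_smul])
    rw [h] at hz2
    have h3 := hz2.smul t⁻¹
    rw [inv_smul_smul] at h3
    have h4 : t⁻¹ • b • a⁻¹ • a⁻¹ • z = a⁻¹ • z := by
      rw [← mul_smul, show t⁻¹ * b = a from ?_, smul_inv_smul]
      rw [ha_def]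
      exact Subgroup.mem_center_iff.1 (hk hb) t⁻¹
    rwa [h4] at h3

include hM in
/-- The kernel of a perfect central extension lies in `M`. -/
theorem ker_le_of_graphT (hE : commutator E = ⊤) : ξ.ker ≤ M := by
  obtain ⟨e, he, hsymm, htri⟩ := exists_flat hM hk hG hs
  set o : E ⧸ M := ((1 : E) : E ⧸ M)
  have hpo : prj hM o = v0 := by rw [prj_mk, map_one, one_smul]
  let S : Set (E ⧸ M) := {z | ∃ u', Lift e o u' ∧ Lift e u' z ∧ Good (prj hM u') (prj hM z)}
  have next' := fun {x : E ⧸ M} {y : X} (h : adj (prj hM x) y) => Lift.exists_next hM hk hG hs he h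
  have adj' := fun {x y : E ⧸ M} (h : Lift e x y) => Lift.adj_prj hM he hG h
  -- the middle point may be any good common neighbour
  have via : ∀ z ∈ S, ∀ u, adj v0 u → adj u (prj hM z) → Good u (prj hM z) →
      ∃ u', Lift e o u' ∧ prj hM u' = u ∧ Lift e u' z := by
    rintro z ⟨u1, h1, h2, h3⟩ u hu hux hgu
    have hu1 : adj v0 (prj hM u1) := by have := adj' h1; rwa [hpo] at this
    have hc := hG.link hu1 (adj' h2) h3 hu hux hgu
    clear hu hux hgu
    induction hc with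
    | refl => exact ⟨u1, h1, rfl, h2⟩
    | @tail b c _ hbc ih =>
      obtain ⟨hadj, hc1, hc2, hT1, hT2⟩ := hbc
      obtain ⟨b', hb1, rfl, hb3⟩ := ih
      obtain ⟨c', hc', rfl⟩ := next' hadj
      refine ⟨c', htri o b' c' hb1 hc' (by rw [hpo]; exact hG.symm hc1) (by rw [hpo]; exact hT1), rfl, ?_⟩
      exact htri c' b' z (hsymm _ _ hc') hb3 (hG.symm hc2) hT2
  have uniq : ∀ z ∈ S, ∀ z' ∈ S, prj hM z = prj hM z' → z = z' := by
    rintro z ⟨u1, h1, h2, hg⟩ z' hz' hp
    have hu1 : adj v0 (prj hM u1) := by have := adj' h1; rwa [hpo] at this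
    obtain ⟨u', hu', hpu, h3⟩ := via z' hz' (prj hM u1) hu1 (hp ▸ adj' h2) (hp ▸ hg)
    obtain rfl : u' = u1 := Lift.unique hM hk hG hs he hu' h1 hpu
    exact Lift.unique hM hk hG hs he h2 h3 hp
  have exist : ∀ x : X, ∃ z ∈ S, prj hM z = x := fun x => by
    obtain ⟨u, hu, hux, hg⟩ := hG.common x
    obtain ⟨u', hu', rfl⟩ := next' (x := o) (by rw [hpo]; exact hu)
    obtain ⟨z, hz, rfl⟩ := next' hux
    exact ⟨z, ⟨u', hu', hz, hg⟩, rfl⟩
  have hoS : o ∈ S := by
    obtain ⟨u, hu, -, hg⟩ := hG.common v0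
    obtain ⟨u', hu', rfl⟩ := next' (x := o) (by rw [hpo]; exact hu)
    exact ⟨u', hu', hsymm _ _ hu', by rw [hpo]; exact hg⟩
  have step : ∀ z ∈ S, ∀ w, Lift e z w → (∃ u, adj v0 u ∧ adj u (prj hM z) ∧ adj u (prj hM w) ∧
      Good u (prj hM z) ∧ Good u (prj hM w) ∧ Tri u (prj hM z) (prj hM w)) → w ∈ S := by
    rintro z hz w hzw ⟨u, hu, hu1, hu2, hg1, hg2, hT⟩
    obtain ⟨u', hu', rfl, h3⟩ := via z hz u hu hu1 hg1
    exact ⟨u', hu', htri u' z w h3 hzw (hG.symm hu2) hT, hg2⟩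
  have closed : ∀ z ∈ S, ∀ w, Lift e z w → w ∈ S := by
    intro z hz w hzw
    obtain ⟨c, hzc, hcw, hT, hu1, hu2⟩ := hG.cone (adj' hzw)
    obtain ⟨c', hc', rfl⟩ := next' hzc
    obtain ⟨w', hw', hpw⟩ := next' hcw
    have h1 : Lift e z w' := htri z c' w' hc' hw' (by rw [hpw]; exact hG.symm (adj' hzw)) (by rw [hpw]; exact hT)
    obtain rfl : w' = w := Lift.unique hM hk hG hs he h1 hzw hpw
    exact step c' (step z hz c' hc' hu1) w' hw' hu2
  -- the elements keeping the base coset in `S`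
  have mul_mem' : ∀ f : E, f • o ∈ S → ∀ z ∈ S, f • z ∈ S := by
    rintro f hf z ⟨u', h1, h2, -⟩
    exact closed _ (closed _ hf _ (h1.smul f)) _ (h2.smul f)
  let T : Subgroup E :=
    { carrier := {f : E | f • o ∈ S}
      mul_mem' := fun {f g} hf hg => by
        show (f * g) • o ∈ S
        rw [mul_smul]
        exact mul_mem' f hf _ hg
      one_mem' := by show (1 : E) • o ∈ S; rwa [one_smul]
      inv_mem' := fun {f} hf => by
        show f⁻¹ • o ∈ S
        obtain ⟨z, hz, hpz⟩ := exist (prj hM (f⁻¹ • o))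
        have h1 : f • z = o := uniq _ (mul_mem' f hf _ hz) _ hoS (by
          rw [prj_smul, hpz, ← prj_smul, smul_inv_smul])
        rwa [← h1, inv_smul_smul] }
  have hTA : ∀ f : E, ∃ a ∈ ξ.ker, a * f ∈ T := fun f => by
    obtain ⟨z, hz, hpz⟩ := exist (prj hM (f • o))
    obtain ⟨a, ha, rfl⟩ := exists_ker_of_prj_eq hM hk hpz.symm
    exact ⟨a, ha, by show (a * f) • o ∈ S; rwa [mul_smul]⟩
  have htop : T = ⊤ := by
    rw [eq_top_iff, ← hE, commutator_def, Subgroup.commutator_le]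
    intro f _ g _
    obtain ⟨a, ha, haf⟩ := hTA f
    obtain ⟨b, hb, hbg⟩ := hTA g
    have ca : ∀ z, a * z = z * a := fun z => (Subgroup.mem_center_iff.1 (hk ha) z).symm
    have cb : ∀ z, b * z = z * b := fun z => (Subgroup.mem_center_iff.1 (hk hb) z).symm
    have h : ⁅a * f, b * g⁆ = ⁅f, g⁆ := by
      rw [commutatorElement_def, commutatorElement_def, mul_inv_rev, mul_inv_rev]
      calc a * f * (b * g) * (f⁻¹ * a⁻¹) * (g⁻¹ * b⁻¹)
          = (a * (f * (b * g) * f⁻¹) * a⁻¹) * (g⁻¹ * b⁻¹) := by group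
        _ = f * (b * (g * f⁻¹ * g⁻¹) * b⁻¹) := by rw [ca, cb g, ← cb]; group
        _ = f * g * f⁻¹ * g⁻¹ := by rw [cb]; group
    rw [← h]
    exact T.mul_mem (T.mul_mem (T.mul_mem haf hbg) (T.inv_mem haf)) (T.inv_mem hbg)
  intro a ha
  have h1 : a • o ∈ S := by
    have : a ∈ T := htop ▸ Subgroup.mem_top a
    exact this
  have h2 := uniq _ h1 _ hoS (by rw [prj_smul, MonoidHom.mem_ker.1 ha, one_smul])
  have h3 : ((a * 1 : E) : E ⧸ M) = ((1 : E) : E ⧸ M) := h2
  rw [mul_one, QuotientGroup.eq, mul_one] at h3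
  simpa using M.inv_mem h3

omit hG hs in
include hM in
/-- The kernel of a perfect central extension lies in `M`, for a graph with all triangles. -/
theorem ker_le_of_graph (hG : Graph (G := G) v0 adj) (hs : Function.Surjective ξ) (hE : commutator E = ⊤) :
    ξ.ker ≤ M :=
  ker_le_of_graphT hM hk hG.toGraphT hs hE

end CfsgLib.Schur.OddOrth
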