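import Cfsg.Agent.Lib.Schur.OddOrth.Embed
import Cfsg.Agent.Lib.Schur.OddOrth.Split
import Cfsg.Agent.Lib.Orth.Stab
import Cfsg.Agent.Lib.Classical.OrthSimple

/-!
# The orthogonality graph on the vectors of norm one

In dimension at least seven and odd characteristic (at least eight over the field with three
elements) it satisfies the hypotheses of `Graph` for the commutator subgroup of the orthogonal
group.
-/

set_option autoImplicit false
set_option linter.unusedSectionVars false

open QuadraticMap Module CfsgLib.Orth CfsgLib.Classical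

namespace CfsgLib.Schur.OddOrth

variable {F V : Type*} [Field F] [AddCommGroup V] [Module F V]

/-- The vectors of norm one. -/
abbrev Pt (Q : QuadraticForm F V) : Type _ := {v : V // Q v = 1}

variable {Q : QuadraticForm F V}

instance ptAction : MulAction (orthGroup Q) (Pt Q) where
  smul g x := ⟨g.1 x.1, (apply_quad g _).trans x.2⟩
  one_smul _ := Subtype.ext rfl
  mul_smul _ _ _ := Subtype.ext rfl

theorem coe_smul (g : orthGroup Q) (x : Pt Q) : (g • x).1 = g.1 x.1 := rfl

/-- Orthogonality. -/
def Adj (x y : Pt Q) : Prop := polar Q x.1 y.1 = 0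

variable [FiniteDimensional F V] (hQ : (QuadraticMap.polarBilin Q).Nondegenerate)
include hQ

/-- A subspace with small radical and dimension leaves room for every value in its orthogonal. -/
theorem exists_perp_value [Fintype F] (W : Submodule F V)
    (h : finrank F W + finrank F ↥(W ⊓ LinearMap.BilinForm.orthogonal (QuadraticMap.polarBilin Q) W) + 2 ≤
      finrank F V) (c : F) : ∃ a, Q a = c ∧ ∀ w ∈ W, polar Q a w = 0 := by
  set B : LinearMap.BilinForm F V := QuadraticMap.polarBilin Q
  have hrefl : B.IsRefl := fun x y hxy => by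
    change polar Q y x = 0
    rw [polar_comm]; exact hxy
  have hd : finrank F (B.orthogonal W) = finrank F V - finrank F W :=
    LinearMap.BilinForm.finrank_orthogonal hQ W
  obtain ⟨a, ha, hQa⟩ := exists_value (Q := Q) (B.orthogonal W) (by
    rw [LinearMap.BilinForm.orthogonal_orthogonal hQ hrefl, inf_comm, hd]; omega) c
  exact ⟨a, hQa, fun w hw => hrefl _ _ (ha w hw)⟩

omit hQ in
/-- The radical of a subspace with an anisotropic vector is proper. -/
theorem finrank_radical_lt (h2 : (2 : F) ≠ 0) {W : Submodule F V} {v : V} (hv : v ∈ W) (hQv : Q v ≠ 0) :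
    finrank F ↥(W ⊓ LinearMap.BilinForm.orthogonal (QuadraticMap.polarBilin Q) W) < finrank F W := by
  refine Submodule.finrank_lt_finrank_of_lt (lt_of_le_of_ne inf_le_left fun e => ?_)
  have hv' : v ∈ LinearMap.BilinForm.orthogonal (QuadraticMap.polarBilin Q) W := (e.ge hv).2
  have h : polar Q v v = 0 := hv' v hv
  rw [polar_self'] at h
  exact mul_ne_zero h2 hQv h

/-- Few vectors, one of them anisotropic. -/
theorem exists_value_perp_family [Fintype F] (h2 : (2 : F) ≠ 0) {k : ℕ} (f : Fin k → V) (i : Fin k)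
    (hi : Q (f i) ≠ 0) (hk : 2 * k + 1 ≤ finrank F V) (c : F) :
    ∃ a, Q a = c ∧ ∀ j, polar Q a (f j) = 0 := by
  set W := Submodule.span F (Set.range f)
  have h1 : finrank F W ≤ k := (finrank_range_le_card f).trans (le_of_eq (Fintype.card_fin k))
  have hr := finrank_radical_lt h2 (W := W) (Submodule.subset_span ⟨i, rfl⟩) hi
  obtain ⟨a, hQa, ha⟩ := exists_perp_value hQ W (by omega) c
  exact ⟨a, hQa, fun j => ha _ (Submodule.subset_span ⟨j, rfl⟩)⟩

/-- A common neighbour of two common neighbours of two points. -/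
theorem exists_common_four [Fintype F] (h2 : (2 : F) ≠ 0) (hn : 7 ≤ finrank F V) {v x u w : Pt Q}
    (hvu : Adj v u) (hux : Adj u x) (hvw : Adj v w) (hwx : Adj w x)
    (h : w.1 ∈ Submodule.span F (Set.range ![v.1, x.1, u.1]) ∨ 8 ≤ finrank F V ∨
      polar Q u.1 w.1 * polar Q u.1 w.1 ≠ 4) :
    ∃ y : Pt Q, Adj v y ∧ Adj y x ∧ Adj u y ∧ Adj y w := by
  suffices hs : ∃ a, Q a = 1 ∧ polar Q a v.1 = 0 ∧ polar Q a x.1 = 0 ∧ polar Q a u.1 = 0 ∧
      polar Q a w.1 = 0 by
    obtain ⟨a, ha, h1, h3, h4, h5⟩ := hs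
    refine ⟨⟨a, ha⟩, ?_, h3, ?_, h5⟩
    · show polar Q v.1 a = 0
      rw [polar_comm]; exact h1
    · show polar Q u.1 a = 0
      rw [polar_comm]; exact h4
  rcases h with h | h | h
  · set W := Submodule.span F (Set.range ![v.1, x.1, u.1])
    have hv : v.1 ∈ W := Submodule.subset_span ⟨0, rfl⟩
    obtain ⟨a, ha, hp⟩ := exists_value_perp_family hQ h2 ![v.1, x.1, u.1] 0
      (by simp [v.2]) (by omega) 1
    refine ⟨a, ha, hp 0, hp 1, hp 2, ?_⟩
    suffices hall : ∀ z ∈ W, polar Q a z = 0 from hall _ h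
    intro z hz
    induction hz using Submodule.span_induction with
    | mem z hz => obtain ⟨j, rfl⟩ := hz; exact hp j
    | zero => exact polar_zero_right (Q := Q) _
    | add p q _ _ hp hq => rw [polar_add_right, hp, hq, add_zero]
    | smul c p _ hp => rw [polar_smul_r', hp, mul_zero]
  · set W := Submodule.span F (Set.range ![v.1, x.1, u.1, w.1]) with hW
    have hmem : ∀ j, ![v.1, x.1, u.1, w.1] j ∈ W := fun j => Submodule.subset_span ⟨j, rfl⟩
    have h1 : finrank F W ≤ 4 := (finrank_range_le_card _).trans (le_of_eq (Fintype.card_fin 4))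
    set P := Submodule.span F (Set.range ![v.1, x.1])
    set U := Submodule.span F (Set.range ![u.1, w.1])
    have hpair : ∀ a b : Pt Q,
        finrank F ↥(Submodule.span F (Set.range ![a.1, b.1]) ⊓ LinearMap.ker (QuadraticMap.polarBilin Q a.1)) ≤ 1 := by
      intro a b
      have hS : finrank F (Submodule.span F (Set.range ![a.1, b.1])) ≤ 2 :=
        (finrank_range_le_card _).trans (le_of_eq (Fintype.card_fin 2))
      have hlt : Submodule.span F (Set.range ![a.1, b.1]) ⊓ LinearMap.ker (QuadraticMap.polarBilin Q a.1) <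
          Submodule.span F (Set.range ![a.1, b.1]) := by
        refine lt_of_le_of_ne inf_le_left fun e => ?_
        have hz : polar Q a.1 a.1 = 0 :=
          (e.ge (Submodule.subset_span ⟨0, rfl⟩ : a.1 ∈ Submodule.span F (Set.range ![a.1, b.1]))).2
        rw [polar_self', a.2, mul_one] at hz
        exact h2 hz
      have := Submodule.finrank_lt_finrank_of_lt hlt
      omega
    have hR : W ⊓ LinearMap.BilinForm.orthogonal (QuadraticMap.polarBilin Q) W ≤
        (P ⊓ LinearMap.ker (QuadraticMap.polarBilin Q v.1)) ⊔ (U ⊓ LinearMap.ker (QuadraticMap.polarBilin Q u.1)) := by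
      rintro r ⟨hr, hr'⟩
      have hr0 : ∀ z ∈ W, polar Q z r = 0 := fun z hz => hr' z hz
      obtain ⟨c, rfl⟩ := (Submodule.mem_span_range_iff_exists_fun F).1 hr
      simp only [Fin.sum_univ_four, Matrix.cons_val_zero, Matrix.cons_val_one,
        Matrix.cons_val] at hr0 ⊢
      have ev := hr0 _ (hmem 0)
      have eu := hr0 _ (hmem 2)
      simp only [Matrix.cons_val, polar_add_right, polar_smul_r', polar_self', u.2, v.2, mul_one,
        polar_comm Q u.1 v.1, show polar Q v.1 u.1 = 0 from hvu, show polar Q u.1 x.1 = 0 from hux,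
        show polar Q v.1 w.1 = 0 from hvw, mul_zero, zero_add, add_zero] at ev eu
      rw [add_assoc (c 0 • v.1 + c 1 • x.1)]
      refine Submodule.add_mem_sup ⟨P.add_mem (P.smul_mem _ (Submodule.subset_span ⟨0, rfl⟩))
        (P.smul_mem _ (Submodule.subset_span ⟨1, rfl⟩)), ?_⟩
        ⟨U.add_mem (U.smul_mem _ (Submodule.subset_span ⟨0, rfl⟩))
          (U.smul_mem _ (Submodule.subset_span ⟨1, rfl⟩)), ?_⟩
      · show polar Q v.1 _ = 0
        rw [polar_add_right, polar_smul_r', polar_smul_r', polar_self', v.2, mul_one]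
        linear_combination ev
      · show polar Q u.1 _ = 0
        rw [polar_add_right, polar_smul_r', polar_smul_r', polar_self', u.2, mul_one]
        linear_combination eu
    have h3 := (Submodule.finrank_mono hR).trans (Submodule.finrank_add_le_finrank_add_finrank _ _)
    have h4 : finrank F ↥(P ⊓ LinearMap.ker (QuadraticMap.polarBilin Q v.1)) ≤ 1 := hpair v x
    have h5 : finrank F ↥(U ⊓ LinearMap.ker (QuadraticMap.polarBilin Q u.1)) ≤ 1 := hpair u w
    obtain ⟨a, ha, hp⟩ := exists_perp_value hQ W (by omega) 1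
    exact ⟨a, ha, hp _ (hmem 0), hp _ (hmem 1), hp _ (hmem 2), hp _ (hmem 3)⟩
  · set W := Submodule.span F (Set.range ![v.1, x.1, u.1, w.1]) with hW
    have hmem : ∀ j, ![v.1, x.1, u.1, w.1] j ∈ W := fun j => Submodule.subset_span ⟨j, rfl⟩
    have h1 : finrank F W ≤ 4 := (finrank_range_le_card _).trans (le_of_eq (Fintype.card_fin 4))
    set P := Submodule.span F (Set.range ![v.1, x.1])
    have hR : W ⊓ LinearMap.BilinForm.orthogonal (QuadraticMap.polarBilin Q) W ≤ P ⊓ LinearMap.ker (QuadraticMap.polarBilin Q v.1) := by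
      rintro r ⟨hr, hr'⟩
      have hr0 : ∀ z ∈ W, polar Q z r = 0 := fun z hz => hr' z hz
      obtain ⟨c, rfl⟩ := (Submodule.mem_span_range_iff_exists_fun F).1 hr
      simp only [Fin.sum_univ_four, Matrix.cons_val_zero, Matrix.cons_val_one,
        Matrix.cons_val] at hr0 ⊢
      have eu := hr0 _ (hmem 2)
      have ew := hr0 _ (hmem 3)
      simp only [Matrix.cons_val, polar_add_right, polar_smul_r', polar_self', u.2, w.2, mul_one,
        polar_comm Q u.1 v.1, show polar Q v.1 u.1 = 0 from hvu, show polar Q u.1 x.1 = 0 from hux,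
        polar_comm Q w.1 v.1, show polar Q v.1 w.1 = 0 from hvw, show polar Q w.1 x.1 = 0 from hwx,
        polar_comm Q w.1 u.1, mul_zero, zero_add] at eu ew
      have hd : (4 : F) - polar Q u.1 w.1 * polar Q u.1 w.1 ≠ 0 := fun e => h (by linear_combination -e)
      have hc2 : c 2 = 0 := (mul_eq_zero.1 (by linear_combination 2 * eu - polar Q u.1 w.1 * ew :
        c 2 * (4 - polar Q u.1 w.1 * polar Q u.1 w.1) = 0)).resolve_right hd
      have hc3 : c 3 = 0 := (mul_eq_zero.1 (by linear_combination 2 * ew - polar Q u.1 w.1 * eu :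
        c 3 * (4 - polar Q u.1 w.1 * polar Q u.1 w.1) = 0)).resolve_right hd
      refine ⟨?_, hr0 _ (hmem 0)⟩
      simp only [hc2, hc3, zero_smul, add_zero]
      exact P.add_mem (P.smul_mem _ (Submodule.subset_span ⟨0, rfl⟩))
        (P.smul_mem _ (Submodule.subset_span ⟨1, rfl⟩))
    have hP : finrank F P ≤ 2 := (finrank_range_le_card _).trans (le_of_eq (Fintype.card_fin 2))
    have hlt : P ⊓ LinearMap.ker (QuadraticMap.polarBilin Q v.1) < P := by
      refine lt_of_le_of_ne inf_le_left fun e => ?_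
      have hv : v.1 ∈ P := Submodule.subset_span ⟨0, rfl⟩
      have hz : polar Q v.1 v.1 = 0 := (e ▸ hv : v.1 ∈ P ⊓ _).2
      rw [polar_self', v.2, mul_one] at hz
      exact h2 hz
    have h3 := Submodule.finrank_lt_finrank_of_lt hlt
    have h4 := Submodule.finrank_mono hR
    obtain ⟨a, ha, hp⟩ := exists_perp_value hQ W (by omega) 1
    exact ⟨a, ha, hp _ (hmem 0), hp _ (hmem 1), hp _ (hmem 2), hp _ (hmem 3)⟩

/-- The common neighbours of two points are connected. -/
theorem link_neighbours [Fintype F] (h2 : (2 : F) ≠ 0) (hn : 7 ≤ finrank F V)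
    (h3 : Fintype.card F = 3 → 8 ≤ finrank F V) {v x u w : Pt Q}
    (hvu : Adj v u) (hux : Adj u x) (hvw : Adj v w) (hwx : Adj w x) :
    Relation.ReflTransGen (fun a b => Adj a b ∧ (Adj v b ∧ Adj b x)) u w := by
  have direct : ∀ u w : Pt Q, Adj v u → Adj u x → Adj v w → Adj w x →
      (w.1 ∈ Submodule.span F (Set.range ![v.1, x.1, u.1]) ∨ 8 ≤ finrank F V ∨
        polar Q u.1 w.1 * polar Q u.1 w.1 ≠ 4) →
      Relation.ReflTransGen (fun a b => Adj a b ∧ (Adj v b ∧ Adj b x)) u w := fun u w a b c d h => by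
    obtain ⟨y, h1, h2', h3', h4⟩ := exists_common_four hQ h2 hn a b c d h
    exact (Relation.ReflTransGen.single ⟨h3', h1, h2'⟩).tail ⟨h4, c, d⟩
  by_cases hspan : w.1 ∈ Submodule.span F (Set.range ![v.1, x.1, u.1])
  · exact direct u w hvu hux hvw hwx (Or.inl hspan)
  by_cases h8 : 8 ≤ finrank F V
  · exact direct u w hvu hux hvw hwx (Or.inr (Or.inl h8))
  by_cases hc : polar Q u.1 w.1 * polar Q u.1 w.1 = 4
  swap
  · exact direct u w hvu hux hvw hwx (Or.inr (Or.inr hc))
  -- the degenerate plane: `s` is singular and orthogonal to `v`, `x`, `u`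
  set ε : F := polar Q u.1 w.1 / 2 with hε
  have hcε : polar Q u.1 w.1 = 2 * ε := by rw [hε]; field_simp
  have hεε : ε * ε = 1 := mul_left_cancel₀ (show (4 : F) ≠ 0 by
    rw [show (4 : F) = 2 * 2 by norm_num]; exact mul_ne_zero h2 h2) (by
      rw [hcε] at hc; linear_combination hc)
  set W3 := Submodule.span F (Set.range ![v.1, x.1, u.1]) with hW3
  set s := w.1 - ε • u.1 with hs
  have hsW : s ∉ W3 := fun hsm => hspan (by
    rw [show w.1 = s + ε • u.1 by rw [hs]; abel]
    exact W3.add_mem hsm (W3.smul_mem _ (Submodule.subset_span ⟨2, rfl⟩)))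
  obtain ⟨f₀, hf₀, hf₀s⟩ := exists_polar_one hQ hsW
  have hfv : polar Q f₀ v.1 = 0 := hf₀ _ (Submodule.subset_span ⟨0, rfl⟩)
  have hfx : polar Q f₀ x.1 = 0 := hf₀ _ (Submodule.subset_span ⟨1, rfl⟩)
  have hfu : polar Q f₀ u.1 = 0 := hf₀ _ (Submodule.subset_span ⟨2, rfl⟩)
  have hsv : polar Q s v.1 = 0 := by
    rw [hs, polar_sub_left, polar_smul_l', polar_comm Q w.1, polar_comm Q u.1]
    rw [show polar Q v.1 w.1 = 0 from hvw, show polar Q v.1 u.1 = 0 from hvu]; ring
  have hsx : polar Q s x.1 = 0 := by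
    rw [hs, polar_sub_left, polar_smul_l', show polar Q w.1 x.1 = 0 from hwx,
      show polar Q u.1 x.1 = 0 from hux]; ring
  have hsu : polar Q s u.1 = 0 := by
    rw [hs, polar_sub_left, polar_smul_l', polar_comm Q w.1 u.1, polar_self', u.2, hcε]; ring
  have hQs : Q s = 0 := by
    rw [hs, sub_eq_add_neg, ← neg_smul, quad_add', quad_smul', polar_smul_r', polar_comm Q w.1 u.1, hcε,
      w.2, u.2]
    linear_combination -hεε
  clear_value s
  set f := f₀ - Q f₀ • s with hf
  have hfs : polar Q f s = 1 := by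
    rw [hf, polar_sub_left, polar_smul_l', hf₀s, polar_self', hQs]; ring
  have hQf : Q f = 0 := by
    rw [hf, sub_eq_add_neg, ← neg_smul, quad_add', quad_smul', polar_smul_r', hf₀s, hQs]; ring
  have hcard : 3 < Fintype.card F := by
    have h1 := Fintype.one_lt_card (α := F)
    have hodd : Fintype.card F % 2 = 1 :=
      FiniteField.odd_card_of_char_ne_two fun h' => h2 (by
        haveI : CharP F 2 := ringChar.eq_iff.1 h'
        exact CharTwo.two_eq_zero)
    have : Fintype.card F ≠ 3 := fun e => h8 (h3 e)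
    omega
  classical
  obtain ⟨t, ht⟩ : ∃ t, t ∉ ({0, 2, -2} : Finset F) := by
    by_contra hall
    push Not at hall
    have h1 := Finset.card_le_card (fun x (_ : x ∈ Finset.univ) => hall x)
    have := Finset.card_le_three (a := (0 : F)) (b := 2) (c := -2)
    rw [Finset.card_univ] at h1
    omega
  simp only [Finset.mem_insert, Finset.mem_singleton, not_or] at ht
  obtain ⟨ht0, ht2, ht2'⟩ := ht
  set a := t⁻¹ • s + t • f with ha
  have hQa : Q a = 1 := by
    rw [ha, quad_add', quad_smul', quad_smul', polar_smul_l', polar_smul_r', polar_comm Q s f, hfs, hQs, hQf]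
    field_simp
    ring
  have hperp : ∀ z : V, polar Q s z = 0 → polar Q f₀ z = 0 → polar Q a z = 0 := fun z h1 h2' => by
    rw [ha, hf, polar_add_left, polar_smul_l', polar_smul_l', polar_sub_left, polar_smul_l', h1, h2']; ring
  have haw : polar Q a w.1 = t := by
    rw [show w.1 = s + ε • u.1 by rw [hs]; abel, polar_add_right, polar_smul_r', hperp _ hsu hfu]
    rw [ha, polar_add_left, polar_smul_l', polar_smul_l', hfs, polar_self', hQs]; ring
  let y : Pt Q := ⟨a, hQa⟩
  have hvy : Adj v y := by
    show polar Q v.1 a = 0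
    rw [polar_comm]; exact hperp _ hsv hfv
  have hyx : Adj y x := hperp _ hsx hfx
  have huy : Adj u y := by
    show polar Q u.1 a = 0
    rw [polar_comm]; exact hperp _ hsu hfu
  refine (Relation.ReflTransGen.single ⟨huy, hvy, hyx⟩).trans (direct y w hvy hyx hvw hwx (Or.inr (Or.inr ?_)))
  show polar Q a w.1 * polar Q a w.1 ≠ 4
  rw [haw]
  intro e
  rcases mul_self_eq_mul_self_iff.1 (show t * t = 2 * 2 by rw [e]; norm_num) with h1 | h1
  · exact ht2 h1
  · exact ht2' h1

omit hQ in
theorem linearIndependent_ortho (h2 : (2 : F) ≠ 0) {k : ℕ} (a : Fin k → Pt Q)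
    (ha : Pairwise fun i j => Adj (a i) (a j)) : LinearIndependent F fun i => (a i).1 := by
  classical
  rw [Fintype.linearIndependent_iff]
  intro c hc i
  have h := congrArg (QuadraticMap.polarBilin Q (a i).1) hc
  rw [map_sum, map_zero, Finset.sum_eq_single i (fun j _ hj => ?_) (by simp)] at h
  · rw [map_smul, QuadraticMap.polarBilin_apply_apply, polar_self', (a i).2, smul_eq_mul, mul_one] at h
    exact (mul_eq_zero.1 h).resolve_right h2
  · rw [map_smul, QuadraticMap.polarBilin_apply_apply, show polar Q (a i).1 (a j).1 = 0 from ha hj.symm, smul_zero]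

/-- Transitivity on orthogonal frames. -/
theorem trans_ortho [Fintype F] [Finite V] (h2 : (2 : F) ≠ 0) {k : ℕ} (i₀ : Fin k)
    (hk : 2 * k + 1 ≤ finrank F V) (a b : Fin k → Pt Q)
    (ha : Pairwise fun i j => Adj (a i) (a j)) (hb : Pairwise fun i j => Adj (b i) (b j)) :
    ∃ g : commutator (orthGroup Q), ∀ i, g • a i = b i := by
  have h4 := good_of_two_ne (V := V) h2
  obtain ⟨g, -, hg⟩ := witt_family hQ h4 (fun i => (a i).1) (fun i => (b i).1)
    (linearIndependent_ortho h2 a ha) (linearIndependent_ortho h2 b hb)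
    (fun i => by rw [(a i).2, (b i).2]) (fun i j => by
      rcases eq_or_ne i j with rfl | hij
      · rw [polar_self', polar_self', (a i).2, (b i).2]
      · rw [show polar Q (a i).1 (a j).1 = 0 from ha hij, show polar Q (b i).1 (b j).1 = 0 from hb hij])
  let S : Subgroup (orthGroup Q) :=
    { carrier := {s | ∀ i, s.1 (b i).1 = (b i).1}
      mul_mem' := fun {s t} hs ht i => by show s.1 (t.1 _) = _; rw [ht i, hs i]
      one_mem' := fun _ => rfl
      inv_mem' := fun {s} hs i => by
        conv_lhs => rw [← hs i]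
        exact s.1.symm_apply_apply _ }
  obtain ⟨s, hs, hse⟩ := exists_mem_ab_eq hQ h4 S (fun c hc => by
    obtain ⟨d, hQd, hd⟩ := exists_value_perp_family hQ h2 (fun i => (b i).1) i₀
      (by rw [(b i₀).2]; exact one_ne_zero) hk (Q c)
    exact ⟨refl Q d, fun i => refl_fix Q (hd i),
      ab_refl_eq hQ h4 (hQd ▸ hc) hc ⟨Q c, by rw [hQd]⟩⟩) g⁻¹
  refine ⟨⟨s * g, by rw [mem_commutator_iff, map_mul, hse, map_inv, inv_mul_cancel]⟩, fun i => Subtype.ext ?_⟩
  show s.1 (g.1 (a i).1) = (b i).1
  rw [hg i]
  exact hs i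

/-- The stabilizer of an orthogonal pair in the commutator subgroup is perfect. -/
theorem perfect_pair [Fintype F] [Finite V] (h2 : (2 : F) ≠ 0) (hn : 7 ≤ finrank F V) {v y : Pt Q}
    (hvy : Adj v y) :
    MulAction.stabilizer (commutator (orthGroup Q)) v ⊓ MulAction.stabilizer (commutator (orthGroup Q)) y ≤
      ⁅MulAction.stabilizer (commutator (orthGroup Q)) v ⊓ MulAction.stabilizer (commutator (orthGroup Q)) y,
        MulAction.stabilizer (commutator (orthGroup Q)) v ⊓ MulAction.stabilizer (commutator (orthGroup Q)) y⁆ := by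
  let φ : V →ₗ[F] F × F := (QuadraticMap.polarBilin Q v.1).prod (QuadraticMap.polarBilin Q y.1)
  let U := LinearMap.ker φ
  have hU : ∀ z, z ∈ U ↔ polar Q v.1 z = 0 ∧ polar Q y.1 z = 0 := fun z => by
    simp [U, φ, LinearMap.mem_ker]
  have hdim : 5 ≤ finrank F U := by
    have h1 := LinearMap.finrank_range_add_finrank_ker φ
    have h3 := Submodule.finrank_le (LinearMap.range φ)
    rw [Module.finrank_prod, Module.finrank_self] at h3
    show 5 ≤ finrank F (LinearMap.ker φ)
    omega
  -- the decomposition along `v` and `y`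
  have hsplit : ∀ z : V, z - (polar Q v.1 z / 2) • v.1 - (polar Q y.1 z / 2) • y.1 ∈ U := fun z => by
    rw [hU]
    constructor <;>
    · rw [polar_sub_right, polar_sub_right, polar_smul_r', polar_smul_r', polar_self']
      simp only [v.2, y.2, show polar Q v.1 y.1 = 0 from hvy, polar_comm Q y.1 v.1]
      field_simp
      ring
  have hperp : ∀ z : V, (∀ w : U, polar Q z w = 0) →
      z = (polar Q v.1 z / 2) • v.1 + (polar Q y.1 z / 2) • y.1 := fun z hz => by
    set d := z - (polar Q v.1 z / 2) • v.1 - (polar Q y.1 z / 2) • y.1 with hd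
    have hdU := (hU _).1 (hsplit z)
    rw [← hd] at hdU
    have : d = 0 := eq_zero_of_polar hQ fun x => by
      set d' := x - (polar Q v.1 x / 2) • v.1 - (polar Q y.1 x / 2) • y.1 with hd'
      have hU' := (hU _).1 (hsplit x)
      rw [← hd'] at hU'
      rw [show x = d' + (polar Q v.1 x / 2) • v.1 + (polar Q y.1 x / 2) • y.1 by rw [hd']; abel,
        polar_add_right, polar_add_right, polar_smul_r', polar_smul_r', polar_comm Q d v.1, hdU.1,
        polar_comm Q d y.1, hdU.2]
      rw [hd, polar_sub_left, polar_sub_left, polar_smul_l', polar_smul_l', hU'.1, hU'.2,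
        hz ⟨d', hsplit x⟩]
      ring
    rw [← sub_eq_zero]
    rw [← this, hd]
    abel
  let R := Q.comp U.subtype
  have hR : (QuadraticMap.polarBilin R).Nondegenerate := by
    have key : ∀ u : U, (∀ w : U, polar R u w = 0) → u = 0 := fun u hu => by
      refine Subtype.ext ?_
      have h := hperp u.1 fun w => by
        have := hu w
        simpa [R, polar, QuadraticMap.comp_apply] using this
      rw [((hU _).1 u.2).1, ((hU _).1 u.2).2] at h
      simpa using h
    exact ⟨key, fun u hu => key u fun w => by rw [polar_comm]; exact hu w⟩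
  obtain ⟨J, hJT, hJfix, hJrefl, hJsurj⟩ := exists_embHom U.subtype (fun w => rfl) hR hQ
  haveI : Finite U := inferInstance
  have hiff := embHom_mem_commutator_iff U.subtype (fun w => rfl) hR h2 hQ J hJrefl
  obtain ⟨hp⟩ := exists_hypPairs hR hdim
  let J' : commutator (orthGroup R) →* commutator (orthGroup Q) :=
    (J.comp (commutator (orthGroup R)).subtype).codRestrict _ fun g => (hiff g.1).2 g.2
  have hvy' : ∀ w : U, polar Q v.1 w = 0 ∧ polar Q y.1 w = 0 := fun w => (hU _).1 w.2
  have hrange : J'.range = MulAction.stabilizer (commutator (orthGroup Q)) v ⊓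
      MulAction.stabilizer (commutator (orthGroup Q)) y := by
    ext h
    constructor
    · rintro ⟨g, rfl⟩
      exact ⟨Subtype.ext (hJfix g.1 v.1 fun w => (hvy' w).1), Subtype.ext (hJfix g.1 y.1 fun w => (hvy' w).2)⟩
    · rintro ⟨hv, hy⟩
      have hv' : h.1.1 v.1 = v.1 := congrArg Subtype.val hv
      have hy' : h.1.1 y.1 = y.1 := congrArg Subtype.val hy
      obtain ⟨g, hg⟩ := hJsurj h.1 fun z hz => by
        rw [hperp z hz, map_add, map_smul, map_smul, hv', hy']
      exact ⟨⟨g, (hiff g).1 (hg ▸ h.2)⟩, Subtype.ext hg⟩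
  have hperf : (⊤ : Subgroup (commutator (orthGroup R))) ≤ ⁅(⊤ : Subgroup (commutator (orthGroup R))), ⊤⁆ := by
    rw [← Subgroup.map_subtype_le_map_subtype, Subgroup.map_commutator, ← MonoidHom.range_eq_map,
      Subgroup.range_subtype]
    exact CfsgLib.Classical.commutator_perfect hR (good_of_two_ne h2) hp hdim
  rw [← hrange, MonoidHom.range_eq_map, ← Subgroup.map_commutator]
  exact Subgroup.map_mono hperf

/-- The graph. -/
theorem orthGraph [Fintype F] [Finite V] (h2 : (2 : F) ≠ 0) (hn : 7 ≤ finrank F V)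
    (h3 : Fintype.card F = 3 → 8 ≤ finrank F V) (v0 : Pt Q) :
    Graph (G := commutator (orthGroup Q)) v0 (Adj (Q := Q)) where
  symm {x y} h := by
    show polar Q y.1 x.1 = 0
    rw [polar_comm]; exact h
  smul g {x y} h := by
    show polar Q (g.1.1 x.1) (g.1.1 y.1) = 0
    rw [polar_isom]; exact h
  point x := by
    obtain ⟨g, hg⟩ := trans_ortho hQ h2 (k := 1) 0 (by omega) ![v0] ![x]
      (fun i j h => absurd (Subsingleton.elim i j) h) (fun i j h => absurd (Subsingleton.elim i j) h)
    exact ⟨g, hg 0⟩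
  edge {x y x' y'} h h' := by
    have hsym : ∀ {p q : Pt Q}, Adj p q → Adj q p := fun {p q} h => by
      show polar Q q.1 p.1 = 0
      rw [polar_comm]; exact h
    obtain ⟨g, hg⟩ := trans_ortho hQ h2 (k := 2) 0 (by omega) ![x, y] ![x', y']
      (fun i j hij => by fin_cases i <;> fin_cases j <;> first | exact absurd rfl hij | exact h | exact hsym h)
      (fun i j hij => by fin_cases i <;> fin_cases j <;> first | exact absurd rfl hij | exact h' | exact hsym h')
    exact ⟨g, hg 0, hg 1⟩
  tri {x y z x' y' z'} a b c a' b' c' := by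
    have hsym : ∀ {p q : Pt Q}, Adj p q → Adj q p := fun {p q} h => by
      show polar Q q.1 p.1 = 0
      rw [polar_comm]; exact h
    obtain ⟨g, hg⟩ := trans_ortho hQ h2 (k := 3) 0 (by omega) ![x, y, z] ![x', y', z']
      (fun i j hij => by
        fin_cases i <;> fin_cases j <;> first | exact absurd rfl hij | exact a | exact hsym a | exact b | exact hsym b | exact c | exact hsym c)
      (fun i j hij => by
        fin_cases i <;> fin_cases j <;> first | exact absurd rfl hij | exact a' | exact hsym a' | exact b' | exact hsym b' | exact c' | exact hsym c')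
    exact ⟨g, hg 0, hg 1, hg 2⟩
  common x := by
    obtain ⟨a, ha, hp⟩ := exists_value_perp_family hQ h2 ![v0.1, x.1] 0 (by simp [v0.2]) (by omega) 1
    refine ⟨⟨a, ha⟩, ?_, hp 1⟩
    show polar Q v0.1 a = 0
    rw [polar_comm]; exact hp 0
  link a b c d := link_neighbours hQ h2 hn h3 a b c d
  cone {a b} _ := by
    obtain ⟨u, hu, hp⟩ := exists_value_perp_family hQ h2 ![v0.1, a.1, b.1] 0 (by simp [v0.2]) (by omega) 1
    refine ⟨⟨u, hu⟩, ?_, hp 1, hp 2⟩
    show polar Q v0.1 u = 0
    rw [polar_comm]; exact hp 0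
  perf h := perfect_pair hQ h2 hn h

end CfsgLib.Schur.OddOrth
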