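import Cfsg.Agent.Lib.KnownA.PlusMultiplier.Cover
import Cfsg.Agent.Lib.KnownA.SLMultiplier
import Cfsg.Agent.Lib.Classical.LowRank.Six
import Cfsg.Agent.Lib.Classical.OrthPOmega

/-!
# Central extensions of `Ω⁺` have subgroups meeting the kernel in at most two elements
-/

set_option autoImplicit false
set_option linter.unusedSectionVars false

open Matrix CfsgLib.Classical CfsgLib.Orth

namespace CfsgLib.Schur.OddOrth

universe u v

variable {F : Type u} [Field F] [Fintype F]

/-- The plus side in rank at least four. -/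
theorem exists_almost_section_four {n : ℕ} (hn : 4 ≤ n) (h2 : (2 : F) ≠ 0) {Z : Type v} [Group Z]
    (η : Z →* ↥(Cfsg.Omega F (Cfsg.quadFormPlus n F))) (hs : Function.Surjective η)
    (hk : η.ker ≤ Subgroup.center Z) :
    ∃ (M : Subgroup Z) (c : Z), M.map η = ⊤ ∧ c * c = 1 ∧ M ⊓ η.ker ≤ Subgroup.zpowers c := by
  have hq : n = 4 → Fintype.card F ≠ 2 := fun _ e => h2 (by
    have h := FiniteField.cast_card_eq_zero F
    rw [e] at h
    exact_mod_cast h)
  obtain ⟨φ, D, L⟩ := CfsgLib.KnownA.PlusMultiplier.exists_lifts (hn := hn) hs hk hq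
  exact ⟨CfsgLib.KnownA.PlusMultiplier.gen φ D, D * D, L.map_gen, (L.sq_facts hs hk hq).1,
    fun x hx => L.ker_le hs hk hq hx.1 hx.2⟩

/-- The Klein map covers `Ω⁺₆`. -/
theorem kleinHom_range :
    (LowRank.kleinHom (F := F)).range = Cfsg.Omega F (Cfsg.quadFormPlus 3 F) := by
  classical
  have hp : commutator (SpecialLinearGroup (Fin 4) F) = ⊤ := sl_perfect (by simp)
  have hle : (LowRank.kleinHom (F := F)).range ≤ Cfsg.Omega F (Cfsg.quadFormPlus 3 F) := by
    rintro _ ⟨g, rfl⟩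
    exact LowRank.mem_omega_of_perfect hp _ g
  refine Subgroup.eq_of_le_of_card_ge hle ?_
  -- the two orders agree
  have hr : Nat.card (LowRank.kleinHom (F := F)).range * Nat.card (LowRank.kleinHom (F := F)).ker =
      Nat.card (SpecialLinearGroup (Fin 4) F) := by
    rw [← Subgroup.index_ker, mul_comm, Subgroup.card_mul_index]
  have h := LowRank.card_omega_mul (Qf := Cfsg.quadFormPlus 3 F) (plusForm F 3) (plusForm_apply 3)
  have hQ := plusForm_nondeg (F := F) 3
  have hn : Module.finrank F (Fin 3 ⊕ Fin 3 → F) = 6 := by simp [Module.finrank_pi]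
  rw [card_orth_plus rfl 2, Finset.prod_range_succ, Finset.prod_range_one] at h
  have hk := LowRank.card_sqrt_one (F := F)
  rw [← LowRank.card_ker_kleinHom] at hk
  rw [LowRank.card_sl_four rfl] at hr
  set q := Fintype.card F
  have hX : 2 * q ^ ((2 + 1) * 2) * (q ^ (2 + 1) - 1) * ((q ^ (2 * (0 + 1)) - 1) * (q ^ (2 * (1 + 1)) - 1)) =
      2 * (q ^ 6 * ((q ^ 2 - 1) * (q ^ 3 - 1) * (q ^ 4 - 1))) := by ring
  rw [hX] at h
  generalize q ^ 6 * ((q ^ 2 - 1) * (q ^ 3 - 1) * (q ^ 4 - 1)) = X at h hr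
  by_cases h2 : (2 : F) = 0
  · haveI : CharP F 2 := CharTwo.of_one_ne_zero_of_two_eq_zero one_ne_zero h2
    rw [index_commutator_two hQ (Or.inr (by omega)) (by omega)] at h
    rw [if_pos h2] at hk
    rw [show Nat.card (LowRank.kleinHom (F := F)).ker = 1 by omega] at hr
    omega
  · rw [index_commutator_odd hQ h2 (by omega)] at h
    rw [if_neg h2] at hk
    rw [show Nat.card (LowRank.kleinHom (F := F)).ker = 2 by omega] at hr
    omega

/-- The plus side in rank three. -/
theorem exists_almost_section_three (h2 : (2 : F) ≠ 0) {Z : Type v} [Group Z]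
    (η : Z →* ↥(Cfsg.Omega F (Cfsg.quadFormPlus 3 F))) (hs : Function.Surjective η)
    (hk : η.ker ≤ Subgroup.center Z) :
    ∃ (M : Subgroup Z) (c : Z), M.map η = ⊤ ∧ c * c = 1 ∧ M ⊓ η.ker ≤ Subgroup.zpowers c := by
  classical
  have hp : commutator (SpecialLinearGroup (Fin 4) F) = ⊤ := sl_perfect (by simp)
  let κ := (LowRank.kleinHom (F := F)).codRestrict (Cfsg.Omega F (Cfsg.quadFormPlus 3 F))
    (LowRank.mem_omega_of_perfect hp _)
  let X : Subgroup (SpecialLinearGroup (Fin 4) F × Z) :=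
    MonoidHom.eqLocus (κ.comp (MonoidHom.fst _ Z)) (η.comp (MonoidHom.snd _ Z))
  let π : X →* SpecialLinearGroup (Fin 4) F := (MonoidHom.fst _ Z).comp X.subtype
  have hπ : Function.Surjective π := fun A => by
    obtain ⟨z, hz⟩ := hs (κ A)
    exact ⟨⟨(A, z), hz.symm⟩, rfl⟩
  have hπk : π.ker ≤ Subgroup.center X := by
    rintro ⟨⟨A, z⟩, hz⟩ hA
    obtain rfl : A = 1 := hA
    have hz' : η z = 1 := by
      have h1 : κ 1 = η z := hz
      rw [map_one] at h1
      exact h1.symm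
    rw [Subgroup.mem_center_iff]
    rintro ⟨⟨B, w⟩, hw⟩
    exact Subtype.ext (Prod.ext ((mul_one B).trans (one_mul B).symm) (Subgroup.mem_center_iff.1 (hk hz') w))
  obtain ⟨s, hs'⟩ := CfsgLib.KnownA.SLMultiplier.exists_section (K := F) (ι := Fin 4) (ξ := π) hπ hπk
    ⟨by simp, by simp, fun _ e => h2 (by
      have h := FiniteField.cast_card_eq_zero F
      rw [e] at h
      exact_mod_cast h)⟩
  let ψ : SpecialLinearGroup (Fin 4) F →* Z := ((MonoidHom.snd _ Z).comp X.subtype).comp s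
  have hψ : ∀ A, η (ψ A) = κ A := fun A => by
    have h1 : κ (s A).1.1 = η (s A).1.2 := (s A).2
    rw [show (s A).1.1 = A from hs' A] at h1
    exact h1.symm
  let z0 : SpecialLinearGroup (Fin 4) F := ⟨(-1 : F) • 1, by
    rw [Matrix.det_smul, Matrix.det_one, Fintype.card_fin]; norm_num⟩
  refine ⟨ψ.range, ψ z0, ?_, ?_, ?_⟩
  · rw [eq_top_iff]
    rintro ⟨g, hg⟩ -
    rw [← kleinHom_range] at hg
    obtain ⟨A, rfl⟩ := hg
    exact ⟨ψ A, ⟨A, rfl⟩, hψ A⟩
  · rw [← map_mul, show z0 * z0 = 1 from Subtype.ext (by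
      show ((-1 : F) • (1 : Matrix (Fin 4) (Fin 4) F)) * ((-1 : F) • 1) = 1
      simp), map_one]
  · rintro _ ⟨⟨A, rfl⟩, hA⟩
    have hA' : A ∈ (LowRank.kleinHom (F := F)).ker := by
      have h1 : κ A = 1 := (hψ A).symm.trans hA
      exact congrArg Subtype.val h1
    obtain ⟨c, hc, hAc⟩ := (LowRank.mem_ker_kleinHom_iff A).1 hA'
    rcases sq_eq_one_iff.1 hc with rfl | rfl
    · rw [show A = 1 from Subtype.ext (by rw [hAc, one_smul]; rfl), map_one]
      exact one_mem _
    · rw [show A = z0 from Subtype.ext hAc]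
      exact Subgroup.mem_zpowers _

/-- Both cases. -/
theorem exists_almost_section {n : ℕ} (hn : 3 ≤ n) (h2 : (2 : F) ≠ 0) {Z : Type v} [Group Z]
    (η : Z →* ↥(Cfsg.Omega F (Cfsg.quadFormPlus n F))) (hs : Function.Surjective η)
    (hk : η.ker ≤ Subgroup.center Z) :
    ∃ (M : Subgroup Z) (c : Z), M.map η = ⊤ ∧ c * c = 1 ∧ M ⊓ η.ker ≤ Subgroup.zpowers c := by
  rcases Nat.lt_or_ge n 4 with h | h
  · obtain rfl : n = 3 := by omega
    exact exists_almost_section_three h2 η hs hk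
  · exact exists_almost_section_four h h2 η hs hk

end CfsgLib.Schur.OddOrth
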