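import Cfsg.Agent.Lib.Orth.Spinor
import Cfsg.Agent.Lib.Schur.Basic
import Cfsg.Prelude.Def_KGroupFacts

/-!
# A non-split double cover of the commutator subgroup of an orthogonal group

The pairs `(u, g)` with `u ι v = ι (g v) u` in the Clifford algebra form a central extension; its
commutator subgroup contains `(-1, 1)`, the commutator of lifts of two products of reflections.
-/

set_option autoImplicit false
set_option linter.unusedSectionVars false

open QuadraticMap CliffordAlgebra CfsgLib.Orth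
open scoped commutatorElement

namespace CfsgLib.Schur.OddOrth

variable {F V : Type*} [Field F] [AddCommGroup V] [Module F V] {Q : QuadraticForm F V}

/-- Pairs of a unit and an isometry, the unit twisting the vectors by the isometry. -/
def spinPairs (Q : QuadraticForm F V) :
    Subgroup ((CliffordAlgebra Q)ˣ × ↥(commutator (orthGroup Q))) where
  carrier := {p | ∀ v, (p.1 : CliffordAlgebra Q) * ι Q v = ι Q (p.2.1.1 v) * p.1}
  mul_mem' {p q} hp hq v := by
    show ((p.1 : CliffordAlgebra Q) * q.1) * ι Q v = ι Q (p.2.1.1 (q.2.1.1 v)) * (p.1 * q.1)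
    rw [mul_assoc, hq, ← mul_assoc, hp, mul_assoc]
  one_mem' v := by
    show (1 : CliffordAlgebra Q) * ι Q v = ι Q v * 1
    rw [one_mul, mul_one]
  inv_mem' {p} hp v := by
    show ((p.1⁻¹ : (CliffordAlgebra Q)ˣ) : CliffordAlgebra Q) * ι Q v =
      ι Q ((p.2⁻¹).1.1 v) * ((p.1⁻¹ : (CliffordAlgebra Q)ˣ) : CliffordAlgebra Q)
    rw [Units.inv_mul_eq_iff_eq_mul, ← mul_assoc, hp,
      show p.2.1.1 ((p.2⁻¹).1.1 v) = v from p.2.1.1.apply_symm_apply v, Units.mul_inv_cancel_right]

theorem ι_conj_anisotropic {a : V} (ha : Q a ≠ 0) (v : V) :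
    ι Q a * ι Q v = (-1 : F) • (ι Q ((refl Q a).1 v) * ι Q a) := by
  rw [refl_apply, map_sub, map_smul, sub_mul, smul_mul_assoc, ι_sq_scalar, neg_one_smul, neg_sub,
    Algebra.smul_def, ← map_mul (algebraMap F (CliffordAlgebra Q)), eq_sub_iff_add_eq, ι_mul_ι_add_swap]
  congr 1
  field_simp

theorem units_commute_of_ι {u : (CliffordAlgebra Q)ˣ} (h : ∀ v, (u : CliffordAlgebra Q) * ι Q v = ι Q v * u)
    (x : CliffordAlgebra Q) : (u : CliffordAlgebra Q) * x = x * u := by
  induction x using CliffordAlgebra.induction with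
  | algebraMap r => exact (Algebra.commutes r (u : CliffordAlgebra Q)).symm
  | ι v => exact h v
  | mul a b ha hb => rw [← mul_assoc, ha, mul_assoc, hb, mul_assoc]
  | add a b ha hb => rw [mul_add, add_mul, ha, hb]

variable [FiniteDimensional F V] [Fintype F] [Finite V]
  (hQ : (QuadraticMap.polarBilin Q).Nondegenerate) (h2 : (2 : F) ≠ 0)
include hQ h2

/-- Every isometry is induced up to a sign by a unit. -/
theorem exists_twisted (g : orthGroup Q) :
    ∃ (u : (CliffordAlgebra Q)ˣ) (ε : Fˣ), ε * ε = 1 ∧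
      ∀ v, (u : CliffordAlgebra Q) * ι Q v = (ε : F) • (ι Q (g.1 v) * u) := by
  have hg : g ∈ reflGroup Q := by rw [reflGroup_eq_top hQ (good_of_two_ne h2)]; trivial
  induction hg using Subgroup.closure_induction with
  | mem x hx =>
    obtain ⟨a, rfl⟩ := hx
    by_cases ha : Q a = 0
    · refine ⟨1, 1, one_mul 1, fun v => ?_⟩
      simp [refl_apply, ha]
    · refine ⟨(isUnit_ι_of_isUnit Q (IsUnit.mk0 _ ha)).unit, -1, by simp, fun v => ?_⟩
      rw [IsUnit.unit_spec, Units.val_neg, Units.val_one]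
      exact ι_conj_anisotropic ha v
  | one => exact ⟨1, 1, one_mul 1, fun v => by simp⟩
  | mul x y _ _ hx hy =>
    obtain ⟨u, ε, hε, hu⟩ := hx
    obtain ⟨w, δ, hδ, hw⟩ := hy
    refine ⟨u * w, ε * δ, by rw [mul_mul_mul_comm, hε, hδ, one_mul], fun v => ?_⟩
    rw [Units.val_mul, mul_assoc, hw, mul_smul_comm, ← mul_assoc, hu, smul_mul_assoc, smul_smul, mul_assoc,
      Units.val_mul, mul_comm (δ : F)]
    rfl
  | inv x _ hx =>
    obtain ⟨u, ε, hε, hu⟩ := hx
    refine ⟨u⁻¹, ε, hε, fun v => ?_⟩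
    rw [Units.inv_mul_eq_iff_eq_mul, mul_smul_comm, ← mul_assoc, hu, smul_mul_assoc, smul_smul,
      ← Units.val_mul, hε, Units.val_one, one_smul, show x.1 ((x⁻¹).1 v) = v from x.1.apply_symm_apply v,
      Units.mul_inv_cancel_right]

/-- The pairs cover the commutator subgroup. -/
theorem spinPairs_surjective (g : ↥(commutator (orthGroup Q))) :
    ∃ p ∈ spinPairs Q, p.2 = g := by
  let S : Subgroup (orthGroup Q) :=
    ((spinPairs Q).map (MonoidHom.snd _ _)).map (commutator (orthGroup Q)).subtype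
  suffices h : commutator (orthGroup Q) ≤ S by
    obtain ⟨g', ⟨p, hp, rfl⟩, hg⟩ := h g.2
    exact ⟨p, hp, Subtype.ext hg⟩
  rw [commutator_def, Subgroup.commutator_le]
  intro x _ y _
  obtain ⟨u, ε, hε, hu⟩ := exists_twisted hQ h2 x
  obtain ⟨w, δ, hδ, hw⟩ := exists_twisted hQ h2 y
  have inv : ∀ {z : orthGroup Q} {t : (CliffordAlgebra Q)ˣ} {γ : Fˣ}, γ * γ = 1 →
      (∀ v, (t : CliffordAlgebra Q) * ι Q v = (γ : F) • (ι Q (z.1 v) * t)) →
      ∀ v, ((t⁻¹ : (CliffordAlgebra Q)ˣ) : CliffordAlgebra Q) * ι Q v = (γ : F) • (ι Q ((z⁻¹).1 v) * _) :=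
    fun {z t γ} hγ ht v => by
    rw [Units.inv_mul_eq_iff_eq_mul, mul_smul_comm, ← mul_assoc, ht, smul_mul_assoc, smul_smul,
      ← Units.val_mul, hγ, Units.val_one, one_smul, show z.1 ((z⁻¹).1 v) = v from z.1.apply_symm_apply v,
      Units.mul_inv_cancel_right]
  let c : ↥(commutator (orthGroup Q)) :=
    ⟨⁅x, y⁆, Subgroup.commutator_mem_commutator (Subgroup.mem_top x) (Subgroup.mem_top y)⟩
  refine ⟨c, ⟨(⁅u, w⁆, c), fun v => ?_, rfl⟩, rfl⟩
  show ((u * w * u⁻¹ * w⁻¹ : (CliffordAlgebra Q)ˣ) : CliffordAlgebra Q) * ι Q v =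
    ι Q ((x * y * x⁻¹ * y⁻¹).1 v) * _
  have hi := inv hε hu
  have hj := inv hδ hw
  simp only [Units.val_mul, mul_assoc]
  rw [hj, mul_smul_comm, mul_smul_comm, mul_smul_comm, ← mul_assoc ((u⁻¹ : (CliffordAlgebra Q)ˣ) : CliffordAlgebra Q),
    hi, smul_mul_assoc, mul_smul_comm, mul_smul_comm, mul_assoc (ι Q _), ← mul_assoc (w : CliffordAlgebra Q),
    hw, smul_mul_assoc, mul_smul_comm, mul_assoc (ι Q _), ← mul_assoc (u : CliffordAlgebra Q), hu,
    smul_mul_assoc, mul_assoc (ι Q _), smul_smul, smul_smul, smul_smul]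
  rw [show (δ : F) * ε * δ * ε = 1 by
    have e1 : (ε : F) * ε = 1 := by rw [← Units.val_mul, hε, Units.val_one]
    have e2 : (δ : F) * δ = 1 := by rw [← Units.val_mul, hδ, Units.val_one]
    linear_combination (δ : F) * δ * e1 + e2, one_smul]
  simp only [commutatorElement_def, Units.val_mul, mul_assoc]
  rfl

set_option maxHeartbeats 1000000 in
/-- A stem extension with an element of order two in its kernel. -/
theorem exists_spin_cover (hperf : commutator ↥(commutator (orthGroup Q)) = ⊤) {a b c : V}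
    (ha : Q a = 1) (hb : Q b = 1) (hc : Q c = 1) (hab : polar Q a b = 0) (hbc : polar Q b c = 0)
    (hac : polar Q a c = 0) :
    ∃ (S : Subgroup (spinPairs Q)) (σ : S →* ↥(commutator (orthGroup Q))),
      Finite S ∧ Cfsg.IsStemExtension σ ∧ S = commutator (spinPairs Q) ∧ (∀ s : S, σ s = s.1.1.2) ∧
        ∃ z ∈ σ.ker, z ≠ 1 := by
  classical
  let π : spinPairs Q →* ↥(commutator (orthGroup Q)) := (MonoidHom.snd _ _).comp (spinPairs Q).subtype
  have hπ : Function.Surjective π := fun g => by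
    obtain ⟨p, hp, rfl⟩ := spinPairs_surjective hQ h2 g
    exact ⟨⟨p, hp⟩, rfl⟩
  have hπk : π.ker ≤ Subgroup.center (spinPairs Q) := by
    rintro ⟨⟨u, g⟩, hp⟩ hu
    obtain rfl : g = 1 := hu
    rw [Subgroup.mem_center_iff]
    rintro ⟨⟨w, h⟩, hq⟩
    refine Subtype.ext (Prod.ext (Units.ext ?_) ((mul_one h).trans (one_mul h).symm))
    exact (units_commute_of_ι (u := u) (fun v => hp v) (w : CliffordAlgebra Q)).symm
  have : Finite (orthGroup Q) :=
    Finite.of_injective (fun g => (g.1 : V → V)) (DFunLike.coe_injective.comp Subtype.val_injective)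
  have hfi : (Subgroup.center (spinPairs Q)).FiniteIndex := by
    haveI : π.ker.FiniteIndex := ⟨by
      rw [Subgroup.index_ker, MonoidHom.range_eq_top.2 hπ, Subgroup.card_top]
      exact Nat.card_pos.ne'⟩
    exact Subgroup.finiteIndex_of_le hπk
  have hfin := CfsgLib.Schur.Basic.finite_commutator_of_finiteIndex_center (X := spinPairs Q)
  have hmapS : (commutator (spinPairs Q)).map π = ⊤ := by
    show (⁅(⊤ : Subgroup (spinPairs Q)), (⊤ : Subgroup (spinPairs Q))⁆).map π = ⊤
    rw [Subgroup.map_commutator, Subgroup.map_top_of_surjective π hπ]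
    exact hperf
  have hle : commutator (spinPairs Q) ≤
      (commutator ↥(commutator (spinPairs Q))).map (commutator (spinPairs Q)).subtype := by
    refine CfsgLib.Schur.Basic.commutator_le_map_of_sup_center _ ?_
    rw [Subgroup.range_subtype, eq_top_iff]
    intro p _
    obtain ⟨s, hs, hsp⟩ : π p ∈ (commutator (spinPairs Q)).map π := hmapS ▸ Subgroup.mem_top _
    rw [show p = s * (s⁻¹ * p) by group]
    exact mul_mem (Subgroup.mem_sup_left hs) (Subgroup.mem_sup_right (hπk (by
      rw [MonoidHom.mem_ker, map_mul, map_inv, hsp, inv_mul_cancel])))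
  refine ⟨commutator (spinPairs Q), π.comp (commutator (spinPairs Q)).subtype, hfin, ⟨?_, ?_, ?_⟩, rfl,
    fun _ => rfl, ?_⟩
  · intro g
    obtain ⟨s, hs, rfl⟩ : g ∈ (commutator (spinPairs Q)).map π := hmapS ▸ Subgroup.mem_top g
    exact ⟨⟨s, hs⟩, rfl⟩
  · intro z hz
    rw [Subgroup.mem_center_iff]
    exact fun w => Subtype.ext (Subgroup.mem_center_iff.1 (hπk (show (z : spinPairs Q) ∈ π.ker from hz)) _)
  · intro z _
    obtain ⟨y, hy, hyz⟩ := hle z.2
    rwa [← show y = z from Subtype.ext hyz]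
  -- the two products of reflections
  have pair : ∀ {x y : V}, Q x = 1 → Q y = 1 → ∃ p : spinPairs Q,
      (p.1.1 : CliffordAlgebra Q) = ι Q x * ι Q y ∧
      (p.1.2 : orthGroup Q) = refl Q x * refl Q y := fun {x y} hx hy => by
    have hne : ∀ {z : V}, Q z = 1 → Q z ≠ 0 := fun h => by rw [h]; exact one_ne_zero
    have hmem : refl Q x * refl Q y ∈ commutator (orthGroup Q) := by
      have h := (prod_refl_mem_commutator_iff hQ h2 [x, y] (by simp [hx, hy])).2 ⟨by simp, by simp [hx, hy]⟩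
      simpa using h
    refine ⟨⟨((isUnit_ι_of_isUnit Q (IsUnit.mk0 _ (hne hx))).unit *
      (isUnit_ι_of_isUnit Q (IsUnit.mk0 _ (hne hy))).unit, ⟨_, hmem⟩), fun v => ?_⟩, ?_, rfl⟩
    · simp only [Units.val_mul, IsUnit.unit_spec]
      rw [mul_assoc, ι_conj_anisotropic (hne hy), mul_smul_comm, ← mul_assoc, ι_conj_anisotropic (hne hx),
        smul_mul_assoc, smul_smul, neg_mul_neg, one_mul, one_smul, mul_assoc]
      rfl
    · rfl
  obtain ⟨P, hP1, hP2⟩ := pair ha hb
  obtain ⟨R, hR1, hR2⟩ := pair hb hc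
  have sq : ∀ {x : V}, Q x = 1 → ι Q x * ι Q x = 1 := fun h => by rw [ι_sq_scalar, h, map_one]
  have ac : ∀ {x y : V}, polar Q x y = 0 → ι Q x * ι Q y = -(ι Q y * ι Q x) := fun h => by
    rw [eq_neg_iff_add_eq_zero, ι_mul_ι_add_swap, h, map_zero]
  have hanti : (P.1.1 : CliffordAlgebra Q) * R.1.1 = -((R.1.1 : CliffordAlgebra Q) * P.1.1) := by
    rw [hP1, hR1]
    set A := ι Q a
    set B := ι Q b
    set C := ι Q c
    have e1 : A * B * (B * C) = A * C := by
      rw [mul_assoc, ← mul_assoc B, sq hb, one_mul]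
    have hba : polar Q b a = 0 := by rw [polar_comm]; exact hab
    have e2 : B * C * (A * B) = C * A := by
      rw [ac hbc, neg_mul, mul_assoc C B, ← mul_assoc B A B, ac hba, neg_mul, mul_neg, neg_neg,
        mul_assoc A B B, sq hb, mul_one]
    rw [e1, e2]
    exact ac hac
  have hcomm : ((⁅P, R⁆ : spinPairs Q).1.1 : CliffordAlgebra Q) = -1 := by
    show ((P.1.1 * R.1.1 * P.1.1⁻¹ * R.1.1⁻¹ : (CliffordAlgebra Q)ˣ) : CliffordAlgebra Q) = -1
    rw [Units.val_mul, Units.mul_inv_eq_iff_eq_mul, Units.val_mul, Units.mul_inv_eq_iff_eq_mul, Units.val_mul,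
      hanti, neg_one_mul, neg_mul]
  have hker : π ⁅P, R⁆ = 1 := by
    rw [map_commutatorElement, commutatorElement_eq_one_iff_mul_comm]
    refine Subtype.ext ?_
    show (P.1.2 : orthGroup Q) * R.1.2 = R.1.2 * P.1.2
    rw [hP2, hR2]
    have comm : ∀ {x y : V}, polar Q x y = 0 → refl Q x * refl Q y = refl Q y * refl Q x := fun {x y} h => by
      have := conj_refl Q (refl Q x) y
      rw [refl_fix Q h, mul_inv_eq_iff_eq_mul] at this
      exact this
    calc refl Q a * refl Q b * (refl Q b * refl Q c) = refl Q a * refl Q c := by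
          rw [mul_assoc, ← mul_assoc (refl Q b), refl_mul_self, one_mul]
      _ = refl Q c * refl Q a := comm hac
      _ = refl Q b * (refl Q b * (refl Q c * refl Q a)) := by rw [← mul_assoc, refl_mul_self, one_mul]
      _ = refl Q b * (refl Q b * refl Q c) * refl Q a := by simp only [mul_assoc]
      _ = refl Q b * (refl Q c * refl Q b) * refl Q a := by rw [comm hbc]
      _ = refl Q b * refl Q c * (refl Q b * refl Q a) := by simp only [mul_assoc]
      _ = refl Q b * refl Q c * (refl Q a * refl Q b) := by rw [comm hab]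
  refine ⟨⟨⁅P, R⁆, Subgroup.commutator_mem_commutator (Subgroup.mem_top P) (Subgroup.mem_top R)⟩, hker, ?_⟩
  intro h
  have h1 : (-1 : CliffordAlgebra Q) = 1 := by
    rw [← hcomm]
    exact congrArg (fun p : ↥(commutator (spinPairs Q)) => (p.1.1.1 : CliffordAlgebra Q)) h
  haveI : Invertible (2 : F) := invertibleOfNonzero h2
  have h3 : ((-1 : F)) = 1 := by
    have h4 := congrArg (equivExterior Q) h1
    rw [← map_one (algebraMap F (CliffordAlgebra Q)), ← map_neg] at h4
    simp only [equivExterior, changeFormEquiv_apply] at h4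
    rw [changeForm_algebraMap,
      changeForm_algebraMap] at h4
    exact (ExteriorAlgebra.algebraMap_inj _ _ _).1 h4
  exact h2 (by linear_combination -h3)

end CfsgLib.Schur.OddOrth
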