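import Cfsg.Agent.Lib.Schur.OddOrth.Geometry
import Cfsg.Agent.Lib.Schur.OddOrth.Section
import Cfsg.Agent.Lib.Schur.OddOrth.Spin

/-!
# The Schur multiplier of `Ω_{2m+1}(q)`, `q` odd
-/

set_option autoImplicit false
set_option linter.unusedSectionVars false

open Matrix QuadraticMap Module CfsgLib.Orth CfsgLib.Classical

namespace CfsgLib.Schur.OddOrth

universe u v

variable {F : Type u} [Field F] [Fintype F]

theorem perfect_commutator {V : Type v} [AddCommGroup V] [Module F V] [FiniteDimensional F V]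
    {Q : QuadraticForm F V} (hQ : (QuadraticMap.polarBilin Q).Nondegenerate) (h2 : (2 : F) ≠ 0)
    (hn : 5 ≤ finrank F V) : commutator ↥(commutator (orthGroup Q)) = ⊤ := by
  obtain ⟨hp⟩ := exists_hypPairs hQ hn
  apply Subgroup.map_injective (commutator (orthGroup Q)).subtype_injective
  rw [Subgroup.map_subtype_commutator, ← MonoidHom.range_eq_map, Subgroup.range_subtype]
  exact le_antisymm (Subgroup.commutator_le.2 fun a _ b _ => Subgroup.commutator_mem_commutator trivial trivial)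
    (CfsgLib.Classical.commutator_perfect hQ (good_of_two_ne h2) hp hn)

/-- The plus space inside the odd space. -/
def plusIncl (m : ℕ) (F : Type u) [Field F] : (Fin m ⊕ Fin m → F) →ₗ[F] (Unit ⊕ (Fin m ⊕ Fin m) → F) where
  toFun w := Sum.elim 0 w
  map_add' u w := by
    funext k
    rcases k with k | k <;> simp
  map_smul' c w := by
    funext k
    rcases k with k | k <;> simp

theorem oddForm_plusIncl (m : ℕ) (w : Fin m ⊕ Fin m → F) :
    oddForm F m (plusIncl m F w) = plusForm F m w := by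
  rw [← oddForm_apply, ← plusForm_apply]
  simp [plusIncl, Cfsg.quadFormOdd, Cfsg.quadFormPlus]

/-- The kernel of a perfect central extension of `Ω_{2m+1}(q)` has at most two elements. -/
theorem card_ker_le_two {m : ℕ} (hm : 3 ≤ m) (h3 : Fintype.card F = 3 → 4 ≤ m) (h2 : (2 : F) ≠ 0)
    {E : Type v} [Group E] (hE : commutator E = ⊤) (ξ : E →* ↥(commutator (orthGroup (oddForm F m))))
    (hs : Function.Surjective ξ) (hk : ξ.ker ≤ Subgroup.center E) :
    ∃ c : E, c * c = 1 ∧ ξ.ker ≤ Subgroup.zpowers c := by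
  classical
  have hQ := oddForm_nondeg (F := F) m h2
  have hn : finrank F (Unit ⊕ (Fin m ⊕ Fin m) → F) = 2 * m + 1 := by
    simp [Module.finrank_pi]; ring
  set T := plusIncl m F
  have hT := oddForm_plusIncl (F := F) m
  have hR := plusForm_nondeg (F := F) m
  let v0 : Pt (oddForm F m) := ⟨Pi.single (Sum.inl ()) 1, by
    rw [← oddForm_apply]; simp [Cfsg.quadFormOdd, Pi.single_apply]⟩
  have hv0 : ∀ w, polar (oddForm F m) v0.1 (T w) = 0 := fun w => by
    rw [oddForm_polar]; simp [v0, T, plusIncl, Pi.single_apply]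
  have hperp : ∀ z : Unit ⊕ (Fin m ⊕ Fin m) → F, (∀ w, polar (oddForm F m) z (T w) = 0) → z = z (Sum.inl ()) • v0.1 := by
    intro z hz
    have h0 : z ∘ Sum.inr = 0 := eq_zero_of_polar hR fun w => by
      have h1 := hz w
      rw [oddForm_polar] at h1
      rw [plusForm_polar]
      simpa [T, plusIncl] using h1
    funext k
    rcases k with k | k
    · simp [v0]
    · simpa [v0] using congrFun h0 k
  obtain ⟨J, hJT, hJfix, hJrefl, hJsurj⟩ := exists_embHom T hT hR hQ
  have hiff := embHom_mem_commutator_iff T hT hR h2 hQ J hJrefl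
  let J' : ↥(Cfsg.Omega F (Cfsg.quadFormPlus m F)) →* ↥(commutator (orthGroup (oddForm F m))) :=
    ((J.comp (commutator (orthGroup (plusForm F m))).subtype).codRestrict _ fun g => (hiff g.1).2 g.2).comp
      (omegaEquiv (plusForm F m) (plusForm_apply m)).toMonoidHom
  have hJ'st : ∀ g, J' g • v0 = v0 := fun g => Subtype.ext (hJfix _ v0.1 hv0)
  have hJ'surj : ∀ h : ↥(commutator (orthGroup (oddForm F m))), h • v0 = v0 → ∃ g, J' g = h := fun h hh => by
    have hh' : h.1.1 v0.1 = v0.1 := congrArg Subtype.val hh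
    obtain ⟨g, hg⟩ := hJsurj h.1 fun z hz => by
      rw [hperp z hz, map_smul, hh']
    refine ⟨(omegaEquiv (plusForm F m) (plusForm_apply m)).symm ⟨g, (hiff g).1 (hg ▸ h.2)⟩, ?_⟩
    refine Subtype.ext ?_
    show J ((omegaEquiv (plusForm F m) (plusForm_apply m))
      ((omegaEquiv (plusForm F m) (plusForm_apply m)).symm _)).1 = h.1
    rw [MulEquiv.apply_symm_apply]
    exact hg
  have hTinj : Function.Injective T := fun a b h => funext fun k => congrFun h (Sum.inr k)
  have hJ'inj : ∀ g, J' g = 1 → g = 1 := fun g hg => by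
    apply (omegaEquiv (plusForm F m) (plusForm_apply m)).injective
    rw [map_one]
    refine Subtype.ext (Subtype.ext (LinearEquiv.ext fun w => hTinj ?_))
    rw [← hJT]
    exact congrArg (fun x : ↥(commutator (orthGroup (oddForm F m))) => x.1.1 (T w)) hg
  -- the pullback to the plus side
  let Z : Subgroup (E × ↥(Cfsg.Omega F (Cfsg.quadFormPlus m F))) :=
    MonoidHom.eqLocus (ξ.comp (MonoidHom.fst _ _)) (J'.comp (MonoidHom.snd _ _))
  let η : Z →* ↥(Cfsg.Omega F (Cfsg.quadFormPlus m F)) := (MonoidHom.snd _ _).comp Z.subtype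
  have hη : Function.Surjective η := fun g => by
    obtain ⟨e, he⟩ := hs (J' g)
    exact ⟨⟨(e, g), he⟩, rfl⟩
  have hηk : η.ker ≤ Subgroup.center Z := by
    rintro ⟨⟨e, g⟩, he⟩ hg
    obtain rfl : g = 1 := hg
    have he' : ξ e = 1 := by
      have h1 : ξ e = J' 1 := he
      rw [h1, map_one]
    rw [Subgroup.mem_center_iff]
    rintro ⟨⟨f, h⟩, hf⟩
    exact Subtype.ext (Prod.ext (Subgroup.mem_center_iff.1 (hk he') f) ((mul_one h).trans (one_mul h).symm))
  obtain ⟨M', c, hM', hc, hMc⟩ := exists_almost_section hm h2 η hη hηk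
  let fst' : Z →* E := (MonoidHom.fst _ _).comp Z.subtype
  let M := M'.map fst'
  have hMmap : M.map ξ = MulAction.stabilizer ↥(commutator (orthGroup (oddForm F m))) v0 := by
    ext h
    constructor
    · rintro ⟨_, ⟨z, -, rfl⟩, rfl⟩
      rw [MulAction.mem_stabilizer_iff, show ξ (fst' z) = J' (η z) from z.2]
      exact hJ'st _
    · intro hh
      obtain ⟨g, rfl⟩ := hJ'surj h hh
      obtain ⟨z, hz, hzg⟩ : g ∈ M'.map η := hM' ▸ Subgroup.mem_top g
      exact ⟨fst' z, ⟨z, hz, rfl⟩, (show ξ (fst' z) = J' (η z) from z.2).trans (by rw [hzg])⟩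
  have hM : ξ.ker ≤ M := ker_le_of_graph hMmap hk
    (orthGraph hQ h2 (by rw [hn]; omega) (fun e => by rw [hn]; have := h3 e; omega) v0) hs hE
  refine ⟨fst' c, by rw [← map_mul, hc, map_one], fun x hx => ?_⟩
  obtain ⟨z, hz, rfl⟩ := hM hx
  have hz1 : z ∈ η.ker := hJ'inj _ ((show ξ (fst' z) = J' (η z) from z.2).symm.trans hx)
  obtain ⟨k, hk'⟩ := Subgroup.mem_zpowers_iff.1 (hMc ⟨hz, hz1⟩)
  exact ⟨k, by rw [← hk', map_zpow]⟩

theorem card_ker_le {m : ℕ} (hm : 3 ≤ m) (h3 : Fintype.card F = 3 → 4 ≤ m) (h2 : (2 : F) ≠ 0)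
    {E : Type v} [Group E] (σ : E →* ↥(commutator (orthGroup (oddForm F m))))
    (hσ : Cfsg.IsStemExtension σ) : Nat.card σ.ker ≤ 2 := by
  have hperf := perfect_commutator (oddForm_nondeg (F := F) m h2) h2 (by
    simp [Module.finrank_pi]; omega)
  have hE : commutator E = ⊤ := by
    have h1 : (commutator E).map σ = ⊤ := by
      show (⁅(⊤ : Subgroup E), (⊤ : Subgroup E)⁆).map σ = ⊤
      rw [Subgroup.map_commutator, Subgroup.map_top_of_surjective σ hσ.1]
      exact hperf
    rw [eq_top_iff]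
    intro e _
    obtain ⟨d, hd, hde⟩ : σ e ∈ (commutator E).map σ := h1 ▸ Subgroup.mem_top _
    have h4 : d⁻¹ * e ∈ σ.ker := by rw [MonoidHom.mem_ker, map_mul, map_inv, hde, inv_mul_cancel]
    rw [show e = d * (d⁻¹ * e) by group]
    exact mul_mem hd (hσ.2.2 h4)
  obtain ⟨c, hc, hle⟩ := card_ker_le_two hm h3 h2 hE σ hσ.1 hσ.2.1
  have hfin : Finite (Subgroup.zpowers c) :=
    (isOfFinOrder_iff_pow_eq_one.2 ⟨2, two_pos, by rw [pow_two, hc]⟩).finite_zpowers
  refine (Subgroup.card_le_of_le hle).trans ?_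
  rw [Nat.card_zpowers]
  exact orderOf_le_of_pow_eq_one two_pos (by rw [pow_two, hc])

/-- The multiplier. -/
theorem hasCyclicSchurMultiplier {m : ℕ} (hm : 3 ≤ m) (hodd : Odd (Fintype.card F))
    (h3 : Fintype.card F = 3 → 4 ≤ m) :
    Cfsg.HasCyclicSchurMultiplier (Cfsg.POmega F (Cfsg.quadFormOdd m F)) 2 := by
  classical
  have h2 : (2 : F) ≠ 0 := fun h => by
    haveI : CharP F 2 := CharTwo.of_one_ne_zero_of_two_eq_zero one_ne_zero h
    have := FiniteField.even_card_of_char_two (ringChar.eq F 2)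
    obtain ⟨k, hk⟩ := hodd
    omega
  set Q := oddForm F m with hQdef
  have hQ := oddForm_nondeg (F := F) m h2
  have hn : 5 ≤ finrank F (Unit ⊕ (Fin m ⊕ Fin m) → F) := by simp [Module.finrank_pi]; omega
  have hperf := perfect_commutator hQ h2 hn
  haveI : Finite (orthGroup Q) :=
    Finite.of_injective (fun g => (g.1 : (Unit ⊕ (Fin m ⊕ Fin m) → F) → _))
      (DFunLike.coe_injective.comp Subtype.val_injective)
  -- the centre is trivial
  have hdet : LinearMap.det ((negEl Q).1 : (Unit ⊕ (Fin m ⊕ Fin m) → F) →ₗ[F] _) = -1 := by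
    have e : ((negEl Q).1 : (Unit ⊕ (Fin m ⊕ Fin m) → F) →ₗ[F] _) = (-1 : F) • LinearMap.id :=
      LinearMap.ext fun v => by simp [negEl]
    rw [e, LinearMap.det_smul, LinearMap.det_id, mul_one]
    simp
  have hneg : negEl Q ∉ commutator (orthGroup Q) := fun h => by
    rw [mem_commutator_odd hQ h2, hdet] at h
    exact h2 (by linear_combination -h.1)
  have hcen : Subgroup.center ↥(commutator (orthGroup Q)) = ⊥ :=
    Subgroup.card_eq_one.1 (card_center_odd_not hQ h2 (hypPairs_odd m (by omega)) hneg)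
  let e0 := omegaEquiv Q (oddForm_apply (F := F) m)
  have hcen' : Subgroup.center ↥(Cfsg.Omega F (Cfsg.quadFormOdd m F)) = ⊥ := by
    rw [Subgroup.eq_bot_iff_forall]
    intro z hz
    apply e0.injective
    rw [map_one, ← Subgroup.mem_bot, ← hcen, Subgroup.mem_center_iff]
    intro g
    obtain ⟨g, rfl⟩ := e0.surjective g
    rw [← map_mul, ← map_mul, Subgroup.mem_center_iff.1 hz g]
  let e : ↥(commutator (orthGroup Q)) ≃* Cfsg.POmega F (Cfsg.quadFormOdd m F) :=
    e0.symm.trans ((QuotientGroup.quotientMulEquivOfEq hcen').trans QuotientGroup.quotientBot).symm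
  refine CfsgLib.Schur.Basic.hasSchurMultiplier_of_mulEquiv e ?_
  obtain ⟨a, ha, hpa⟩ := exists_value_perp_family hQ h2
    ![(Pi.single (Sum.inl ()) 1 : Unit ⊕ (Fin m ⊕ Fin m) → F)] 0
    (by rw [Matrix.cons_val_zero, ← oddForm_apply]; simp [Cfsg.quadFormOdd, Pi.single_apply])
    (by simp [Module.finrank_pi]; omega) 1
  obtain ⟨c, hc, hpc⟩ := exists_value_perp_family hQ h2
    ![(Pi.single (Sum.inl ()) 1 : Unit ⊕ (Fin m ⊕ Fin m) → F), a] 0
    (by rw [Matrix.cons_val_zero, ← oddForm_apply]; simp [Cfsg.quadFormOdd, Pi.single_apply])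
    (by simp [Module.finrank_pi]; omega) 1
  have hb : Q (Pi.single (Sum.inl ()) 1) = 1 := by
    rw [← oddForm_apply]; simp [Cfsg.quadFormOdd, Pi.single_apply]
  obtain ⟨S, σ, hfin, hσ, -, -, z, hz, hz1⟩ := exists_spin_cover hQ h2 hperf hb ha hc
    (by rw [polar_comm]; exact hpa 0) (by rw [polar_comm]; exact hpc 1) (by rw [polar_comm]; exact hpc 0)
  have hle := card_ker_le hm h3 h2 σ hσ
  have hge : 1 < Nat.card σ.ker := by
    haveI : Nontrivial σ.ker := ⟨⟨z, hz⟩, 1, fun h => hz1 (congrArg Subtype.val h)⟩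
    exact Finite.one_lt_card
  have hcard : Nat.card σ.ker = 2 := by omega
  haveI : Fact (Nat.Prime 2) := ⟨Nat.prime_two⟩
  haveI := isCyclic_of_prime_card (p := 2) hcard
  refine CfsgLib.Schur.Basic.hasSchurMultiplier_of_le σ hσ
    (mulEquivOfCyclicCardEq (by rw [hcard]; simp)) ?_
  intro Γ _ _ τ hτ
  simpa using card_ker_le hm h3 h2 τ hτ

end CfsgLib.Schur.OddOrth
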