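import Cfsg.Agent.Lib.Orth.Spinor
import Cfsg.Agent.Lib.Orth.Sum

/-!
# Orthogonal groups of non-degenerate subspaces, through isometric embeddings
-/

set_option autoImplicit false
set_option linter.unusedSectionVars false

namespace CfsgLib.Schur.OddOrth

open QuadraticMap Module CfsgLib.Orth

variable {F V W : Type*} [Field F] [AddCommGroup V] [Module F V] [FiniteDimensional F V]
  [AddCommGroup W] [Module F W] [FiniteDimensional F W]
  {Q : QuadraticForm F V} {R : QuadraticForm F W} (T : W →ₗ[F] V) (hT : ∀ w, Q (T w) = R w)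
  (hR : (QuadraticMap.polarBilin R).Nondegenerate)
include hT hR

omit hR in
theorem polar_T (u w : W) : polar Q (T u) (T w) = polar R u w := by
  simp only [polar, ← map_add, hT]

/-- The orthogonal projection on the image of `T`. -/
theorem exists_proj : ∃ π : V →ₗ[F] W,
    (∀ v w, polar R (π v) w = polar Q v (T w)) ∧ ∀ w, π (T w) = w := by
  let D : W ≃ₗ[F] Module.Dual F W := LinearMap.BilinForm.toDual (QuadraticMap.polarBilin R) hR
  let φ : V →ₗ[F] Module.Dual F W := (QuadraticMap.polarBilin Q).compl₂ T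
  refine ⟨D.symm.toLinearMap.comp φ, fun v w => ?_, fun w => ?_⟩
  · rw [← QuadraticMap.polarBilin_apply_apply]
    exact LinearMap.BilinForm.apply_toDual_symm_apply (hB := hR) (φ v) w
  · refine sub_eq_zero.1 (eq_zero_of_polar hR fun x => ?_)
    rw [polar_sub_left, sub_eq_zero, ← QuadraticMap.polarBilin_apply_apply]
    refine (LinearMap.BilinForm.apply_toDual_symm_apply (hB := hR) (φ (T w)) x).trans ?_
    exact polar_T T hT w x

/-- The orthogonal group of `R` inside that of `Q`, acting trivially on the orthogonal of the image. -/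
theorem exists_embHom (hQ : (QuadraticMap.polarBilin Q).Nondegenerate) : ∃ J : orthGroup R →* orthGroup Q,
    (∀ g w, (J g).1 (T w) = T (g.1 w)) ∧
    (∀ g z, (∀ w, polar Q z (T w) = 0) → (J g).1 z = z) ∧
    (∀ a, J (refl R a) = refl Q (T a)) ∧
    ∀ h : orthGroup Q, (∀ z, (∀ w, polar Q z (T w) = 0) → h.1 z = z) → ∃ g, J g = h := by
  obtain ⟨π, hπ, hπT⟩ := exists_proj T hT hR
  have hperp : ∀ v w, polar Q (v - T (π v)) (T w) = 0 := fun v w => by
    rw [polar_sub_left, polar_T T hT, hπ, sub_self]
  have hz0 : ∀ z, (∀ w, polar Q z (T w) = 0) → π z = 0 := fun z hz =>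
    eq_zero_of_polar hR fun w => by rw [hπ]; exact hz w
  let f : orthGroup R → V →ₗ[F] V := fun g =>
    LinearMap.id - T.comp π + (T.comp (g.1 : W →ₗ[F] W)).comp π
  have hf : ∀ g v, f g v = v - T (π v) + T (g.1 (π v)) := fun g v => rfl
  have hπf : ∀ g v, π (f g v) = g.1 (π v) := fun g v => by
    rw [hf, map_add, map_sub, hπT, hπT, sub_self, zero_add]
  have hff : ∀ g h v, f g (f h v) = f (g * h) v := fun g h v => by
    rw [hf g, hπf, hf h, hf (g * h)]
    show _ = v - T (π v) + T (g.1 (h.1 (π v)))
    abel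
  have hf1 : ∀ v, f 1 v = v := fun v => by
    rw [hf]
    show v - T (π v) + T (π v) = v
    abel
  have hfQ : ∀ g v, Q (f g v) = Q v := fun g v => by
    have e : ∀ w, Q (v - T (π v) + T w) = Q (v - T (π v)) + R w := fun w => by
      rw [quad_add', hperp, add_zero, hT]
    rw [hf, e, apply_quad g]
    conv_rhs => rw [show v = v - T (π v) + T (π v) by abel]
    rw [e]
  let J : orthGroup R →* orthGroup Q :=
    MonoidHom.mk' (fun g => ⟨LinearEquiv.ofLinear (f g) (f g⁻¹)
        (LinearMap.ext fun v => by rw [LinearMap.comp_apply, hff, mul_inv_cancel, hf1]; rfl)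
        (LinearMap.ext fun v => by rw [LinearMap.comp_apply, hff, inv_mul_cancel, hf1]; rfl), hfQ g⟩)
      fun g h => Subtype.ext (LinearEquiv.ext fun v => (hff g h v).symm)
  have hJ : ∀ g v, (J g).1 v = v - T (π v) + T (g.1 (π v)) := fun g v => rfl
  refine ⟨J, fun g w => ?_, fun g z hz => ?_, fun a => ?_, fun h hh => ?_⟩
  · rw [hJ, hπT, sub_self, zero_add]
  · rw [hJ, hz0 z hz]
    simp
  · refine Subtype.ext (LinearEquiv.ext fun v => ?_)
    rw [hJ, refl_apply, refl_apply, hT, map_sub, map_smul, polar_comm R a, hπ, polar_comm Q (T a)]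
    abel
  · -- the image of `T` is invariant
    have hinv : ∀ w, T (π (h.1 (T w))) = h.1 (T w) := fun w => by
      set d := h.1 (T w) - T (π (h.1 (T w))) with hd
      have h1 : ∀ z, (∀ x, polar Q z (T x) = 0) → polar Q d z = 0 := fun z hz => by
        rw [hd, polar_sub_left]
        nth_rewrite 1 [← hh z hz]
        rw [polar_isom, polar_comm Q (T w), hz, polar_comm Q (T (π _)), hz, sub_zero]
      have hz : ∀ x, polar Q d (T x) = 0 := hperp _
      refine (sub_eq_zero.1 (eq_zero_of_polar hQ (v := d) fun v => ?_)).symm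
      rw [show v = v - T (π v) + T (π v) by abel, polar_add_right, h1 _ (hperp v), hz, add_zero]
    let g0 : W →ₗ[F] W := π.comp ((h.1 : V →ₗ[F] V).comp T)
    have hg0 : ∀ w, R (g0 w) = R w := fun w => by
      show R (π (h.1 (T w))) = R w
      rw [← hT, hinv, apply_quad h, hT]
    obtain ⟨g, hg⟩ := exists_of_preserving hR g0 hg0
    refine ⟨g, Subtype.ext (LinearEquiv.ext fun v => ?_)⟩
    rw [hJ, hg]
    show v - T (π v) + T (π (h.1 (T (π v)))) = h.1 v
    rw [hinv]
    conv_rhs => rw [show v = v - T (π v) + T (π v) by abel, map_add, hh _ (hperp v)]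

/-- The embedding detects the commutator subgroups. -/
theorem embHom_mem_commutator_iff [Fintype F] [Finite V] [Finite W] (h2 : (2 : F) ≠ 0)
    (hQ : (QuadraticMap.polarBilin Q).Nondegenerate) (J : orthGroup R →* orthGroup Q)
    (hJ : ∀ a, J (refl R a) = refl Q (T a)) (g : orthGroup R) :
    J g ∈ commutator (orthGroup Q) ↔ g ∈ commutator (orthGroup R) := by
  classical
  refine ⟨fun h => ?_, fun h => ?_⟩
  swap
  · rw [mem_commutator_iff] at h ⊢
    have e := congrArg (Abelianization.map J) h
    rwa [Abelianization.map_of, map_one] at e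
  rw [mem_commutator_odd hQ h2] at h
  have h4 := good_of_two_ne (V := W) h2
  refine (mem_commutator_odd hR h2 g).2 ⟨?_, ?_⟩
  · have := congrArg Units.val (hom_comp_eq_of_refl hR h4 J (LinearEquiv.det.comp (orthGroup R).subtype)
      (LinearEquiv.det.comp (orthGroup Q).subtype) (fun a ha => Units.ext (by
        rw [hJ, MonoidHom.comp_apply, MonoidHom.comp_apply, LinearEquiv.coe_det, LinearEquiv.coe_det]
        exact (det_refl Q (show Q (T a) ≠ 0 by rwa [hT])).trans (det_refl R ha).symm)) g)
    rw [MonoidHom.comp_apply, MonoidHom.comp_apply, LinearEquiv.coe_det, LinearEquiv.coe_det] at this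
    exact this.symm.trans h.1
  · rw [← hom_comp_eq_of_refl hR h4 J (levelSign R 1) (levelSign Q 1) (fun a ha => by
      rw [hJ, levelSign_refl _ h2 one_ne_zero (show Q (T a) ≠ 0 by rwa [hT]), levelSign_refl _ h2 one_ne_zero ha]
      simp only [hT]) g]
    exact h.2

end CfsgLib.Schur.OddOrth
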